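import Cfsg.Agent.S1124
import Cfsg.Agent.Lib.NormalHall
import Cfsg.Agent.Lib.KleinGen
import Cfsg.Agent.ClassicalGeometry.PSL2Klein
import Cfsg.Agent.ClassicalGeometry.SLTwoFour
import Cfsg.Agent.HoltZ.Base
import Cfsg.Agent.SectRankFour.AutSz8
import Cfsg.Agent.Walter.Irreducible
import Cfsg.Agent.ProdFusion.FunctorComplete_m3
import Cfsg.Agent.TwoFusion.PSLTwoGood
import Cfsg.Agent.ClassicalGeometry.PSL2Basic
import Cfsg.Agent.S1169
import Cfsg.Agent.S0506
import Cfsg.Agent.Lib.LocalCore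
import Cfsg.Agent.Lib.CoprimeCommutator
import Cfsg.Agent.Lib.CoprimeStab
import Cfsg.Agent.S3020
import Cfsg.Agent.S3021
import Cfsg.Agent.Lib.MinNormalNonabelian
import Cfsg.Agent.SolvableStructure.KegelNormal
import Cfsg.Agent.S0215
import Cfsg.Agent.S0216
import Cfsg.Agent.Intrinsic.Functor
import Cfsg.Agent.S0205
import Cfsg.Agent.H571.SylowNumber
import Cfsg.Agent.OddOrderLocal.FittingHall
import Cfsg.Agent.SignalizersComponents.CoprimeBasic
import Cfsg.Agent.H594.CyclicMain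
import Cfsg.Agent.CharactersDeep.ExtUnique
import Cfsg.Agent.S0943
import Cfsg.Agent.S0026
import Cfsg.Agent.Characters.Values
import Cfsg.Agent.H267.ThmA
import Cfsg.Agent.H593.GlaubermanP
import Cfsg.Agent.H594.Glau
import Cfsg.Agent.FastGrp
import Cfsg.Agent.Prune
set_option linter.all false

section
prune_inst 0x7ffcfefbabe8bddedfff7e3fffdedffc31c4cfffefdffb4bffe0eb9fef9f23023be5fbad09e058fe5e77e2b410b87853f9ffc67fea6bdc7ffffd57b41ffbee1ff5f7b50851d6983406ac2fff03f0570e6f3ffff7fffffffffffffff7ffffffbeffffe3feffff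

-- part: H266/FourEnd
section
prune_inst 0x10044100000200001c0002100020811100010000000001e00601060000c000200029400820100800002200000000600288005040000000008404000004002080a840001200019524000f80028c01000000800000000000000080000000000001c010000
set_option linter.all false
open scoped Cfsg.Agent.FastGrp

-- part: H266/Four
section
/-!
# Four-groups acting on groups of odd order: a product decomposition and a counting lemma
-/

set_option autoImplicit false
set_option linter.style.haveILetI false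

namespace Cfsg.Agent.H266.Four

open Subgroup Cfsg

variable {G : Type*} [Group G]

/-- Product decomposition for a four-group acting on a group of odd order. -/
theorem exists_decomp [Finite G] {Q : Subgroup G} (hQ : Odd (Nat.card Q)) {a b : G}
    (ha : orderOf a = 2) (hb : orderOf b = 2) (hab : a * b = b * a)
    (haQ : ∀ x ∈ Q, a * x * a⁻¹ ∈ Q) (hbQ : ∀ x ∈ Q, b * x * b⁻¹ ∈ Q) {k : G} (hk : k ∈ Q) :
    ∃ c ∈ Q ⊓ centralizer {a}, ∃ r ∈ Q ⊓ centralizer {b}, ∃ v ∈ Q ⊓ centralizer {a * b},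
      k = c * (r * v * r) := by
  obtain ⟨⟨c, q⟩, ⟨hc, hq, hkc⟩, -⟩ := (S1124.result a ha Q hQ haQ).1 k hk
  simp only at hc hq hkc
  obtain ⟨hqQ, hqa⟩ := hq
  obtain ⟨⟨y, z⟩, ⟨hy, hz, hqyz⟩, -⟩ := (S1124.result b hb Q hQ hbQ).1 q hqQ
  simp only at hy hz hqyz
  obtain ⟨hzQ, hzb⟩ := hz
  obtain ⟨hyQ, hyb⟩ := mem_inf.1 hy
  rw [mem_centralizer_singleton_iff] at hyb
  have hyb' : b * y * b⁻¹ = y := by rw [← hyb]; group
  obtain ⟨m, hm⟩ := hQ
  have hpow : ∀ x ∈ Q, x ^ (2 * m + 1) = 1 := by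
    intro x hx
    have : (⟨x, hx⟩ : Q) ^ Nat.card Q = 1 := pow_card_eq_one'
    rw [hm] at this
    simpa only [_root_.SubmonoidClass.mk_pow, _root_.OneMemClass.coe_one] using congrArg Subtype.val this
  have hroot : ∀ x ∈ Q, x = (x * x) ^ (m + 1) := by
    intro x hx
    have h1 := hpow x hx
    calc x = x ^ (2 * m + 1) * x := by rw [h1]; group
      _ = (x * x) ^ (m + 1) := by rw [← pow_two, ← pow_mul, ← pow_succ]; congr 1
  have hsq : ∀ x ∈ Q, ∀ w ∈ Q, x * x = w * w → x = w := by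
    intro x hx w hw h
    rw [hroot x hx, hroot w hw, h]
  -- conjugations
  set α : G ≃* G := MulAut.conj a with hα
  set β : G ≃* G := MulAut.conj b with hβ
  have hαx : ∀ x, α x = a * x * a⁻¹ := fun x => rfl
  have hβx : ∀ x, β x = b * x * b⁻¹ := fun x => rfl
  have hαβ : ∀ x, α (β x) = β (α x) := by
    intro x
    rw [hαx, hβx, hβx, hαx]
    have h1 : a * (b * x * b⁻¹) * a⁻¹ = (a * b) * x * (a * b)⁻¹ := by group
    have h2 : b * (a * x * a⁻¹) * b⁻¹ = (b * a) * x * (b * a)⁻¹ := by group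
    rw [h1, h2, hab]
  have e1 : α q = q⁻¹ := hqa
  have e2 : β y = y := hyb'
  have e3 : β z = z⁻¹ := hzb
  have e4 : β q = y * z⁻¹ := by rw [hqyz, map_mul, e2, e3]
  have e5 : z * z = (β q)⁻¹ * q := by rw [e4, hqyz]; group
  have e6 : α z * α z = (y * z⁻¹ * y⁻¹) * (y * z⁻¹ * y⁻¹) := by
    rw [← map_mul, e5, map_mul, map_inv, hαβ, e1, map_inv, e4, inv_inv, hqyz]
    group
  have hαQ : ∀ x ∈ Q, α x ∈ Q := haQ
  have e7 : α z = y * z⁻¹ * y⁻¹ :=
    hsq _ (hαQ z hzQ) _ (mul_mem (mul_mem hyQ (inv_mem hzQ)) (inv_mem hyQ)) e6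
  have e8 : α y = y⁻¹ := by
    have h1 : y = q * z⁻¹ := by rw [hqyz]; group
    have h2 : α y = α (q * z⁻¹) := congrArg α h1
    rw [h2, map_mul, e1, map_inv, e7, hqyz]
    group
  set r : G := y ^ (m + 1) with hr
  have hrr : r * r = y := by
    rw [hr, ← pow_add]
    have h1 : m + 1 + (m + 1) = (2 * m + 1) + 1 := by ring
    rw [h1, pow_succ, hpow y hyQ, one_mul]
  have hrQ : r ∈ Q := pow_mem hyQ _
  have f1 : α r = r⁻¹ := by rw [hr, map_pow, e8, inv_pow]
  have f2 : β r = r := by rw [hr, map_pow, e2]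
  set v : G := r * z * r⁻¹ with hv
  have hvQ : v ∈ Q := mul_mem (mul_mem hrQ hzQ) (inv_mem hrQ)
  have g1 : β v = r * z⁻¹ * r⁻¹ := by rw [hv, map_mul, map_mul, map_inv, f2, e3]
  have f3 : α (β v) = v := by
    rw [g1, map_mul, map_mul, map_inv, map_inv, f1, e7, hv, ← hrr]
    group
  refine ⟨c, hc, r, mem_inf.2 ⟨hrQ, ?_⟩, v, mem_inf.2 ⟨hvQ, ?_⟩, ?_⟩
  · rw [mem_centralizer_singleton_iff]
    rw [hβx] at f2
    exact (mul_inv_eq_iff_eq_mul.1 f2).symm
  · rw [mem_centralizer_singleton_iff]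
    rw [hαx, hβx] at f3
    have h0 : (a * b) * v * (a * b)⁻¹ = a * (b * v * b⁻¹) * a⁻¹ := by group
    have h1 : (a * b) * v * (a * b)⁻¹ = v := by rw [h0, f3]
    exact (mul_inv_eq_iff_eq_mul.1 h1).symm
  · rw [hkc, hqyz, hv, ← hrr]; group

theorem four_cases {P : Subgroup G} (h4 : Nat.card P = 4) {a x y : G} (ha : a ∈ P) (ha2 : a * a = 1)
    (ha1 : a ≠ 1) (hx : x ∈ P) (hy : y ∈ P) (hx1 : x ≠ 1) (hxa : x ≠ a) (hy1 : y ≠ 1) (hya : y ≠ a) :
    y = x⁻¹ ∨ y = x⁻¹ * a := by
  have hz : ∀ w : P, w ∈ zpowers (⟨a, ha⟩ : P) ↔ (w : G) = 1 ∨ (w : G) = a := by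
    intro w
    constructor
    · rintro ⟨n, rfl⟩
      have h2 : (⟨a, ha⟩ : P) ^ 2 = 1 := by rw [pow_two]; exact Subtype.ext ha2
      rcases Int.even_or_odd' n with ⟨k, rfl | rfl⟩
      · left
        have : (⟨a, ha⟩ : P) ^ (2 * k) = 1 := by
          rw [zpow_mul]
          have : (⟨a, ha⟩ : P) ^ (2 : ℤ) = 1 := by exact_mod_cast h2
          rw [this, one_zpow]
        simp only [this, Subgroup.coe_one]
      · right
        have : (⟨a, ha⟩ : P) ^ (2 * k + 1) = ⟨a, ha⟩ := by
          rw [zpow_add, zpow_mul]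
          have : (⟨a, ha⟩ : P) ^ (2 : ℤ) = 1 := by exact_mod_cast h2
          rw [this, one_zpow, one_mul, zpow_one]
        simp only [this]
    · rintro (h | h)
      · have : w = 1 := Subtype.ext h
        rw [this]; exact one_mem _
      · have : w = ⟨a, ha⟩ := Subtype.ext h
        rw [this]; exact mem_zpowers _
  have ho : orderOf (⟨a, ha⟩ : P) = 2 := by
    refine orderOf_eq_prime ?_ ?_
    · rw [pow_two]; exact Subtype.ext ha2
    · intro h; exact ha1 (congrArg Subtype.val h)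
  have hidx : (zpowers (⟨a, ha⟩ : P)).index = 2 := by
    have h1 := (zpowers (⟨a, ha⟩ : P)).card_mul_index
    rw [Nat.card_zpowers, ho, h4] at h1
    omega
  have h1 := (Subgroup.mul_mem_iff_of_index_two hidx (a := ⟨x, hx⟩) (b := ⟨y, hy⟩)).2 (by
    rw [hz, hz]
    constructor
    · rintro (h | h)
      · exact absurd h hx1
      · exact absurd h hxa
    · rintro (h | h)
      · exact absurd h hy1
      · exact absurd h hya)
  rw [hz] at h1
  rcases h1 with h1 | h1
  · left
    exact eq_inv_of_mul_eq_one_right h1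
  · right
    have h2 : x * y = a := h1
    rw [← h2]; group

theorem comm_of_sq {P : Subgroup G} (hsq : ∀ x ∈ P, x * x = 1) :
    ∀ x ∈ P, ∀ y ∈ P, x * y = y * x := by
  intro x hx y hy
  have h4 : x⁻¹ = x := inv_eq_of_mul_eq_one_left (hsq x hx)
  have h5 : y⁻¹ = y := inv_eq_of_mul_eq_one_left (hsq y hy)
  have h6 : (x * y)⁻¹ = x * y := inv_eq_of_mul_eq_one_left (hsq (x * y) (mul_mem hx hy))
  rw [← h6, mul_inv_rev, h4, h5]

/-- A Klein four Sylow 2-subgroup: the centraliser of an involution of it has a normal 2-complement. -/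
theorem exists_complement [Finite G] (S : Sylow 2 G) (h4 : Nat.card (S : Subgroup G) = 4)
    (hsq : ∀ x ∈ (S : Subgroup G), x * x = 1) {a : G} (haS : a ∈ (S : Subgroup G)) (ha1 : a ≠ 1) :
    ∃ K : Subgroup G, 4 * Nat.card K = Nat.card (centralizer ({a} : Set G)) ∧
      ∀ x ∈ centralizer ({a} : Set G), Odd (orderOf x) → x ∈ K := by
  haveI : Fact (Nat.Prime 2) := ⟨Nat.prime_two⟩
  have hcomm := comm_of_sq hsq
  set C : Subgroup G := centralizer ({a} : Set G) with hC
  have hSC : (S : Subgroup G) ≤ C := fun x hx => mem_centralizer_singleton_iff.2 (hcomm x hx a haS)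
  set P : Sylow 2 C := S.subtype hSC with hP
  have hPS : (P : Subgroup C) = (S : Subgroup G).subgroupOf C := rfl
  have hcardP : Nat.card (P : Subgroup C) = 4 := by
    rw [hPS, Nat.card_congr (subgroupOfEquivOfLe hSC).toEquiv, h4]
  have hsqP : ∀ x ∈ (P : Subgroup C), x * x = 1 := fun x hx => Subtype.ext (hsq x hx)
  have hcommP := comm_of_sq hsqP
  set a' : C := ⟨a, hSC haS⟩ with ha'
  have ha'P : a' ∈ (P : Subgroup C) := haS
  have ha'1 : a' ≠ 1 := fun h => ha1 (congrArg Subtype.val h)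
  have hNC : normalizer ((P : Subgroup C) : Set C) ≤ centralizer ((P : Subgroup C) : Set C) := by
    intro n hn
    refine mem_centralizer_iff.2 fun x hx => ?_
    by_contra hne
    have hna : n * a' * n⁻¹ = a' := by
      have h1 := mem_centralizer_singleton_iff.1 n.2
      have h2 : n * a' = a' * n := Subtype.ext h1
      rw [h2]; group
    have hx1 : x ≠ 1 := by rintro rfl; exact hne (by simp)
    have hxa : x ≠ a' := by
      rintro rfl
      exact hne (mul_inv_eq_iff_eq_mul.1 hna).symm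
    have hy : n * x * n⁻¹ ∈ (P : Subgroup C) := (mem_normalizer_iff.1 hn x).1 hx
    have hy1 : n * x * n⁻¹ ≠ 1 := by
      intro h; exact hx1 (by simpa only [_root_.conj_eq_one_iff] using h)
    have hya : n * x * n⁻¹ ≠ a' := by
      intro h
      rw [← hna] at h
      exact hxa (by simpa only [_root_.mul_left_inj, _root_.mul_right_inj] using h)
    have hxi : x⁻¹ = x := inv_eq_of_mul_eq_one_left (hsqP x hx)
    have hcase := four_cases hcardP ha'P (hsqP a' ha'P) ha'1 hx hy hx1 hxa hy1 hya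
    rw [hxi] at hcase
    rcases hcase with h1 | h1
    · exact hne (mul_inv_eq_iff_eq_mul.1 h1).symm
    · -- `n` swaps `x` and `x a'`
      have hnn : Commute (n * n) x := by
        have h2 : n * n * x * (n * n)⁻¹ = x := by
          calc n * n * x * (n * n)⁻¹ = n * (n * x * n⁻¹) * n⁻¹ := by group
            _ = n * (x * a') * n⁻¹ := by rw [h1]
            _ = (n * x * n⁻¹) * (n * a' * n⁻¹) := by group
            _ = x * a' * a' := by rw [h1, hna]
            _ = x := by rw [mul_assoc, hsqP a' ha'P, mul_one]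
        exact mul_inv_eq_iff_eq_mul.1 h2
      have hn0 : orderOf n ≠ 0 := (orderOf_pos n).ne'
      obtain ⟨e, m, hmodd, hem⟩ := Nat.exists_eq_two_pow_mul_odd hn0
      have hmP : n ^ m ∈ (P : Subgroup C) := by
        have h2 : IsPGroup 2 (zpowers (n ^ m)) := by
          rw [IsPGroup.iff_card]
          have h3 : orderOf (n ^ m) ∣ 2 ^ e := orderOf_dvd_of_pow_eq_one (by
            rw [← pow_mul, mul_comm, ← hem, pow_orderOf_eq_one])
          obtain ⟨j, -, hj⟩ := (Nat.dvd_prime_pow Nat.prime_two).1 h3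
          exact ⟨j, by rw [Nat.card_zpowers, hj]⟩
        have h3 := h2.inf_normalizer_sylow P
        have h4 := h3.le (mem_inf.2 ⟨mem_zpowers (n ^ m), pow_mem hn _⟩)
        exact (mem_inf.1 h4).2
      obtain ⟨j, hj⟩ := hmodd
      have h5 : n ^ m * x = x * n ^ m := hcommP _ hmP x hx
      have h6 : n ^ m = n * (n * n) ^ j := by
        rw [← pow_two, ← pow_mul, hj, pow_succ']
      have h7 : (n * n) ^ j * x = x * (n * n) ^ j := (hnn.pow_left j).eq
      have h8 : n * x * (n * n) ^ j = x * n * (n * n) ^ j := by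
        calc n * x * (n * n) ^ j = n * ((n * n) ^ j * x) := by rw [h7]; group
          _ = n ^ m * x := by rw [h6]; group
          _ = x * n ^ m := h5
          _ = x * n * (n * n) ^ j := by rw [h6]; group
      exact hne (mul_right_cancel h8).symm
  set φ := MonoidHom.transferSylow P hNC with hφ
  have hcompl : IsComplement' φ.ker (P : Subgroup C) := MonoidHom.ker_transferSylow_isComplement' P hNC
  refine ⟨φ.ker.map C.subtype, ?_, ?_⟩
  · rw [card_map_of_injective C.subtype_injective, ← hcardP, mul_comm, hcompl.card_mul_card]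
  · intro x hx hodd
    refine ⟨⟨x, hx⟩, ?_, rfl⟩
    refine Lib.NormalHall.mem_of_orderOf_coprime_index φ.ker _ ?_
    rw [hcompl.symm.index_eq_card, hcardP, Subgroup.orderOf_mk]
    exact Nat.Coprime.pow_right 2 (Nat.coprime_two_right.2 hodd)

/-- A third element of a group of order greater than two. -/
theorem exists_ne_of_card {E : Subgroup G} (h : 2 < Nat.card E) (a : G) : ∃ b ∈ E, b ≠ 1 ∧ b ≠ a := by
  haveI : Finite E := Nat.finite_of_card_ne_zero (by omega)
  have h1 : ({1, a} : Set G).ncard < (E : Set G).ncard := by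
    have h2 : ({1, a} : Set G).ncard ≤ 2 := Set.ncard_insert_le _ _ |>.trans (by simp)
    have h3 : (E : Set G).ncard = Nat.card E := rfl
    omega
  obtain ⟨b, hb, hb'⟩ := Set.exists_mem_notMem_of_ncard_lt_ncard h1
  simp only [Set.mem_insert_iff, Set.mem_singleton_iff, not_or] at hb'
  exact ⟨b, hb, hb'⟩

/-- The property shared by the four-groups of extremely closed subgroups. -/
def Star (E : Subgroup G) : Prop :=
  ∀ g : G, ∃ Q : Subgroup G, Odd (Nat.card Q) ∧ E ≤ normalizer (Q : Set G) ∧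
    ∃ k ∈ Q, k⁻¹ * g ∈ normalizer (E : Set G)

/-- A subgroup containing `N(E)` and the centralisers of the involutions of `E` is everything. -/
theorem Star.eq_top {E : Subgroup G} (h : Star E) (h4 : Nat.card E = 4) (hsq : ∀ x ∈ E, x * x = 1)
    {M : Subgroup G} (hN : normalizer (E : Set G) ≤ M)
    (hC : ∀ a ∈ E, a ≠ 1 → centralizer ({a} : Set G) ≤ M) : M = ⊤ := by
  have hcomm := comm_of_sq hsq
  obtain ⟨a, haE, ha1, -⟩ := exists_ne_of_card (show 2 < Nat.card E by omega) 1
  obtain ⟨b, hbE, hb1, hba⟩ := exists_ne_of_card (show 2 < Nat.card E by omega) a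
  have hab : a ≠ b := hba.symm
  have hab1 : a * b ≠ 1 := by
    intro h1
    exact hab (by rw [eq_inv_of_mul_eq_one_left h1]; exact inv_eq_of_mul_eq_one_left (hsq b hbE))
  rw [eq_top_iff]
  intro g _
  obtain ⟨Q, hQ, hEQ, k, hk, hkg⟩ := h g
  have hQM : Q ≤ M := by
    refine Lib.KleinGen.le_of_klein Q M hQ a b (hsq a haE) (hsq b hbE) (hcomm a haE b hbE)
      (fun x hx => (mem_normalizer_iff.1 (hEQ haE) x).1 hx)
      (fun x hx => (mem_normalizer_iff.1 (hEQ hbE) x).1 hx) ?_ ?_ ?_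
    · exact inf_le_right.trans (hC a haE ha1)
    · exact inf_le_right.trans (hC b hbE hb1)
    · exact inf_le_right.trans (hC _ (mul_mem haE hbE) hab1)
  have h1 : g = k * (k⁻¹ * g) := by group
  rw [h1]
  exact mul_mem (hQM hk) (hN hkg)

/-- **Counting.** If the Klein four-group `E` is a Sylow 2-subgroup with property `Star`, then there are at most
`|K_a| |K_b| |K_ab|` Klein four-subgroups, `K_x` the normal 2-complement of `C(x)`. -/
theorem Star.card_le [Finite G] {S : Sylow 2 G} (h : Star (S : Subgroup G))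
    (h4 : Nat.card (S : Subgroup G) = 4) (hsq : ∀ x ∈ (S : Subgroup G), x * x = 1) {m : ℕ}
    (hm : ∀ a ∈ (S : Subgroup G), a ≠ 1 → Nat.card (centralizer ({a} : Set G)) ≤ m) :
    64 * Nat.card {V : Subgroup G // IsKleinFour V} ≤ m ^ 3 := by
  haveI : Fact (Nat.Prime 2) := ⟨Nat.prime_two⟩
  have hcomm := comm_of_sq hsq
  obtain ⟨a, haE, ha1, -⟩ := exists_ne_of_card (show 2 < Nat.card (S : Subgroup G) by omega) 1
  obtain ⟨b, hbE, hb1, hba⟩ := exists_ne_of_card (show 2 < Nat.card (S : Subgroup G) by omega) a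
  have hab1 : a * b ≠ 1 := by
    intro h1
    exact hba.symm (by rw [eq_inv_of_mul_eq_one_left h1]; exact inv_eq_of_mul_eq_one_left (hsq b hbE))
  obtain ⟨Ka, ha4, hKa⟩ := exists_complement S h4 hsq haE ha1
  obtain ⟨Kb, hb4, hKb⟩ := exists_complement S h4 hsq hbE hb1
  obtain ⟨Kc, hc4, hKc⟩ := exists_complement S h4 hsq (mul_mem haE hbE) hab1
  have hoa : orderOf a = 2 := orderOf_eq_prime (by rw [pow_two]; exact hsq a haE) ha1
  have hob : orderOf b = 2 := orderOf_eq_prime (by rw [pow_two]; exact hsq b hbE) hb1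
  have hodd : ∀ {Q : Subgroup G}, Odd (Nat.card Q) → ∀ x ∈ Q, Odd (orderOf x) := by
    intro Q hQ x hx
    exact Odd.of_dvd_nat hQ (Subgroup.orderOf_dvd_natCard Q hx)
  -- the parametrisation
  let f : Ka × Kb × Kc → Subgroup G := fun p =>
    (S : Subgroup G).map (MulAut.conj ((p.1 : G) * ((p.2.1 : G) * p.2.2 * p.2.1))).toMonoidHom
  have hsurj : ∀ V : Subgroup G, IsKleinFour V → ∃ p, f p = V := by
    intro V hV
    have hVp : IsPGroup 2 V := by
      rw [IsPGroup.iff_card]
      exact ⟨2, by rw [hV.card_four]; norm_num⟩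
    obtain ⟨P, hP⟩ := hVp.exists_le_sylow
    have hPV : (P : Subgroup G) = V := by
      refine (eq_of_le_of_card_ge hP ?_).symm
      rw [hV.card_four, ← h4]
      exact (P.card_eq_multiplicity.trans S.card_eq_multiplicity.symm).le
    obtain ⟨g, hg⟩ := MulAction.exists_smul_eq G S P
    have hgV : V = (S : Subgroup G).map (MulAut.conj g).toMonoidHom := by
      rw [← hPV, ← hg]; rfl
    obtain ⟨Q, hQ, hEQ, k, hk, hkg⟩ := h g
    obtain ⟨c, hc, r, hr, v, hv, hk'⟩ := exists_decomp hQ hoa hob (hcomm a haE b hbE)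
      (fun x hx => (mem_normalizer_iff.1 (hEQ haE) x).1 hx)
      (fun x hx => (mem_normalizer_iff.1 (hEQ hbE) x).1 hx) hk
    refine ⟨⟨⟨c, hKa c (mem_inf.1 hc).2 (hodd hQ c (mem_inf.1 hc).1)⟩,
      ⟨r, hKb r (mem_inf.1 hr).2 (hodd hQ r (mem_inf.1 hr).1)⟩,
      ⟨v, hKc v (mem_inf.1 hv).2 (hodd hQ v (mem_inf.1 hv).1)⟩⟩, ?_⟩
    simp only [f]
    rw [← hk', hgV]
    have h1 : g = k * (k⁻¹ * g) := by group
    conv_rhs => rw [h1]
    ext x
    constructor
    · rintro ⟨y, hy, rfl⟩
      refine ⟨(k⁻¹ * g)⁻¹ * y * (k⁻¹ * g), ?_, ?_⟩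
      · have h2 := (mem_normalizer_iff.1 (inv_mem hkg) y).1 hy
        rw [inv_inv] at h2
        exact h2
      · simp only [MulEquiv.toMonoidHom_eq_coe, MonoidHom.coe_coe, MulAut.conj_apply]
        group
    · rintro ⟨y, hy, rfl⟩
      refine ⟨(k⁻¹ * g) * y * (k⁻¹ * g)⁻¹, (mem_normalizer_iff.1 hkg y).1 hy, ?_⟩
      simp only [MulEquiv.toMonoidHom_eq_coe, MonoidHom.coe_coe, MulAut.conj_apply]
      group
  have hle : Nat.card {V : Subgroup G // IsKleinFour V} ≤ Nat.card (Ka × Kb × Kc) := by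
    have hinj : ∃ g : {V : Subgroup G // IsKleinFour V} → Ka × Kb × Kc, Function.Injective g := by
      choose g hg using fun V : {V : Subgroup G // IsKleinFour V} => hsurj V.1 V.2
      refine ⟨g, fun V W hVW => Subtype.ext ?_⟩
      rw [← hg V, ← hg W, hVW]
    obtain ⟨g, hg⟩ := hinj
    exact Nat.card_le_card_of_injective g hg
  rw [Nat.card_prod, Nat.card_prod] at hle
  have ma := hm a haE ha1
  have mb := hm b hbE hb1
  have mc := hm _ (mul_mem haE hbE) hab1
  rw [← ha4] at ma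
  rw [← hb4] at mb
  rw [← hc4] at mc
  calc 64 * Nat.card {V : Subgroup G // IsKleinFour V}
      ≤ 64 * (Nat.card Ka * (Nat.card Kb * Nat.card Kc)) := Nat.mul_le_mul_left _ hle
    _ = (4 * Nat.card Ka) * ((4 * Nat.card Kb) * (4 * Nat.card Kc)) := by ring
    _ ≤ m * (m * m) := Nat.mul_le_mul ma (Nat.mul_le_mul mb mc)
    _ = m ^ 3 := by ring

end Cfsg.Agent.H266.Four
end

-- part: H266/PslEven
section
/-!
# Centralisers of involutions in `PSL₂(F)`, `F` of characteristic two
-/

set_option autoImplicit false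

namespace Cfsg.Agent.H266.PslEven

open Cfsg.Agent.ClassicalGeometry.PSL2Klein Cfsg.Agent.ClassicalGeometry.SLTwoFour

variable {F : Type*} [Field F]

theorem sq_of_comm_SL [CharP F 2] {A B : Matrix.SpecialLinearGroup (Fin 2) F} (hA : A * A = 1)
    (hA1 : A ≠ 1) (hAB : A * B = B * A) : B * B = 1 := by
  have h2 : (2 : F) = 0 := CharP.cast_eq_zero F 2
  have hneg : ∀ x : F, -x = x := fun x => CharTwo.neg_eq x
  have e00 : A 0 0 * A 0 0 + A 0 1 * A 1 0 = 1 := by rw [← mul00, hA]; exact one00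
  have e11 : A 1 0 * A 0 1 + A 1 1 * A 1 1 = 1 := by
    rw [← mul11, hA]; simp
  have c01 : A 0 0 * B 0 1 + A 0 1 * B 1 1 = B 0 0 * A 0 1 + B 0 1 * A 1 1 := by
    rw [← mul01, ← mul01, hAB]
  have c10 : A 1 0 * B 0 0 + A 1 1 * B 1 0 = B 1 0 * A 0 0 + B 1 1 * A 1 0 := by
    rw [← mul10, ← mul10, hAB]
  have dB := det2 B
  have dA := det2 A
  -- the trace of `A` vanishes
  have htr : A 0 0 = A 1 1 := by
    have h1 : (A 0 0 + A 1 1) * (A 0 0 + A 1 1) = 0 := by
      linear_combination e00 + e11 + 2 * dA + 2 * h2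
    have h3 := mul_self_eq_zero.1 h1
    rw [← hneg (A 1 1)]
    exact eq_neg_of_add_eq_zero_left h3
  have hB : B 0 0 = B 1 1 := by
    by_contra hne
    have hb : A 0 1 = 0 := by
      have h1 : A 0 1 * (B 1 1 - B 0 0) = 0 := by
        linear_combination c01 - B 0 1 * htr
      rcases mul_eq_zero.1 h1 with h | h
      · exact h
      · exact absurd (sub_eq_zero.1 h).symm hne
    have hc : A 1 0 = 0 := by
      have h1 : A 1 0 * (B 0 0 - B 1 1) = 0 := by
        linear_combination c10 + B 1 0 * htr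
      rcases mul_eq_zero.1 h1 with h | h
      · exact h
      · exact absurd (sub_eq_zero.1 h) hne
    have ha : A 0 0 = 1 := by
      have h1 : (A 0 0 - 1) * (A 0 0 - 1) = 0 := by
        rw [hb] at e00
        linear_combination e00 - (A 0 0 - 1) * h2
      exact sub_eq_zero.1 (mul_self_eq_zero.1 h1)
    apply hA1
    refine ext2 ?_ ?_ ?_ ?_
    · rw [ha]; simp
    · rw [hb]; simp
    · rw [hc]; simp
    · rw [← htr, ha]; simp
  refine ext2 ?_ ?_ ?_ ?_
  · rw [mul00, one00]
    linear_combination dB + B 0 0 * hB + B 0 1 * B 1 0 * h2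
  · rw [mul01]
    simp only [Matrix.SpecialLinearGroup.coe_one, ne_eq, zero_ne_one, not_false_eq_true,
      Matrix.one_apply_ne]
    linear_combination B 0 1 * hB + B 0 1 * B 1 1 * h2
  · rw [mul10]
    simp only [Matrix.SpecialLinearGroup.coe_one, ne_eq, one_ne_zero, not_false_eq_true,
      Matrix.one_apply_ne]
    linear_combination B 1 0 * hB + B 1 0 * B 1 1 * h2
  · rw [mul11]
    simp only [Matrix.SpecialLinearGroup.coe_one, Matrix.one_apply_eq]
    linear_combination dB - B 1 1 * hB + B 0 1 * B 1 0 * h2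

theorem sq_of_comm [CharP F 2] {x y : Matrix.ProjectiveSpecialLinearGroup (Fin 2) F} (hx : x * x = 1)
    (hx1 : x ≠ 1) (hxy : x * y = y * x) : y * y = 1 := by
  obtain ⟨A, rfl⟩ := QuotientGroup.mk_surjective x
  obtain ⟨B, rfl⟩ := QuotientGroup.mk_surjective y
  have hneg : (-1 : Matrix.SpecialLinearGroup (Fin 2) F) = 1 := by
    refine ext2 ?_ ?_ ?_ ?_
    · rw [neg_ij, one00]; exact CharTwo.neg_eq 1
    · rw [neg_ij]; simp
    · rw [neg_ij]; simp
    · rw [neg_ij]; simp [CharTwo.neg_eq]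
  have hnegA : ∀ X : Matrix.SpecialLinearGroup (Fin 2) F, -X = X := by
    intro X
    have : -X = -1 * X := by simp
    rw [this, hneg, one_mul]
  have h1 : A * A = 1 := by
    have h := hx
    rw [← QuotientGroup.mk_mul] at h
    rcases mk_eq_one.1 h with h | h
    · exact h
    · rw [h, hneg]
  have h2 : A ≠ 1 := by
    rintro rfl
    exact hx1 rfl
  have h3 : A * B = B * A := by
    have h := hxy
    rw [← QuotientGroup.mk_mul, ← QuotientGroup.mk_mul] at h
    rcases mk_eq_mk.1 h with h | h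
    · exact h
    · rw [h, hnegA]
  have h4 := sq_of_comm_SL h1 h2 h3
  rw [← QuotientGroup.mk_mul, h4]
  rfl

end Cfsg.Agent.H266.PslEven
end

-- part: H266/FourEnd
section
/-!
# A strongly closed four-group with property `Star` in a simple group
-/

set_option autoImplicit false
set_option linter.style.haveILetI false

namespace Cfsg.Agent.H266.Four

open Subgroup Cfsg Cfsg.Agent.ThreePrime.AbelianBasic

universe u

theorem Star.not_stronglyEmbedded {G : Type*} [Group G] [Finite G] {E : Subgroup G} (h : Star E)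
    (h4 : Nat.card E = 4) (hsq : ∀ x ∈ E, x * x = 1) (M : Subgroup G) : ¬ IsStronglyEmbedded M := by
  haveI : Fact (Nat.Prime 2) := ⟨Nat.prime_two⟩
  intro hM
  have hEp : IsPGroup 2 E := by
    rw [IsPGroup.iff_card]
    exact ⟨2, by rw [h4]; norm_num⟩
  obtain ⟨S, hES⟩ := hEp.exists_le_sylow
  obtain ⟨P, hPM⟩ := SectRankFour.AutSz8.exists_sylow_le hM
  obtain ⟨g, hg⟩ := MulAction.exists_smul_eq G P S
  set M' := M.map (MulAut.conj g).toMonoidHom with hM'd
  have hM' : IsStronglyEmbedded M' := HoltZ.isStronglyEmbedded_map (MulAut.conj g) hM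
  have hEM : E ≤ M' := by
    refine hES.trans ?_
    rw [← hg]
    exact Subgroup.map_mono hPM
  obtain ⟨a, haE, ha1, -⟩ := exists_ne_of_card (show 2 < Nat.card E by omega) 1
  refine hM'.1 (h.eq_top h4 hsq ?_ ?_)
  · intro n hn
    by_contra hnM
    refine SectRankFour.AutSz8.not_mem_conj hM' hEp hEM haE ha1 hnM ?_
    have := (mem_normalizer_iff.1 (inv_mem hn) a).1 haE
    rw [inv_inv] at this
    exact hEM this
  · intro b hb hb1 c hc
    by_contra hcM
    refine SectRankFour.AutSz8.not_mem_conj hM' hEp hEM hb hb1 hcM ?_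
    have h1 := mem_centralizer_singleton_iff.1 hc
    have h2 : c⁻¹ * b * c = b := by rw [mul_assoc, ← h1]; group
    rw [h2]; exact hEM hb

theorem star_map {G H : Type*} [Group G] [Group H] (e : G ≃* H) {E : Subgroup G} (h : Star E) :
    Star (E.map e.toMonoidHom) := by
  intro g
  obtain ⟨Q, hQ, hEQ, k, hk, hkg⟩ := h (e.symm g)
  have key : ∀ (A : Subgroup G) (x : G), x ∈ normalizer (A : Set G) →
      e x ∈ normalizer ((A.map e.toMonoidHom : Subgroup H) : Set H) := by
    intro A x hx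
    rw [mem_normalizer_iff] at hx ⊢
    intro y
    obtain ⟨z, rfl⟩ := e.surjective y
    have h1 : ∀ w : G, e w ∈ A.map e.toMonoidHom ↔ w ∈ A := fun w =>
      Subgroup.mem_map_iff_mem (f := e.toMonoidHom) e.injective
    rw [h1, ← map_inv, ← map_mul, ← map_mul, h1]
    exact hx z
  refine ⟨Q.map e.toMonoidHom, ?_, ?_, e k, ⟨k, hk, rfl⟩, ?_⟩
  · rw [card_map_of_injective e.injective]; exact hQ
  · rintro _ ⟨x, hx, rfl⟩
    exact key Q x (hEQ hx)
  · have h1 := key E _ hkg
    rw [map_mul, map_inv, MulEquiv.apply_symm_apply] at h1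
    exact h1

theorem not_normal_of_simple {X : Type*} [Group X] [Finite X] [IsSimpleGroup X]
    (hna : ∃ a b : X, a * b ≠ b * a) {E : Subgroup X} (h4 : Nat.card E = 4)
    (hsq : ∀ x ∈ E, x * x = 1) : normalizer (E : Set X) ≠ ⊤ := by
  intro htop
  rcases (normalizer_eq_top_iff.1 htop).eq_bot_or_eq_top with h | h
  · rw [h, card_bot] at h4; omega
  · obtain ⟨a, b, hab⟩ := hna
    have := comm_of_sq hsq a (by rw [h]; trivial) b (by rw [h]; trivial)
    exact hab this

theorem two_part {n k : ℕ} (h : n = 8 * k) (hk : Odd k) {X : Type*} [Group X] [Finite X]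
    (hX : Nat.card X = n) (S : Sylow 2 X) : Nat.card (S : Subgroup X) = 8 := by
  haveI : Fact (Nat.Prime 2) := ⟨Nat.prime_two⟩
  rw [S.card_eq_multiplicity, hX, h]
  have h1 : (8 * k).factorization 2 = 3 := by
    have hk0 : k ≠ 0 := by rintro rfl; exact absurd hk (by decide)
    rw [Nat.factorization_mul (by norm_num) hk0]
    have h8 : (8 : ℕ) = 2 ^ 3 := by norm_num
    have h2 : k.factorization 2 = 0 :=
      Nat.factorization_eq_zero_of_not_dvd (fun hd => (Nat.not_even_iff_odd.2 hk) (even_iff_two_dvd.2 hd))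
    rw [Finsupp.add_apply, h2, h8, Nat.Prime.factorization_pow Nat.prime_two]
    simp
  rw [h1]; norm_num

/-- The case `PSL₂(q)`, `q ≡ 3, 5 (mod 8)`. -/
theorem false_of_psl {X : Type*} [Group X] [Finite X] [IsSimpleGroup X]
    (hna : ∃ a b : X, a * b ≠ b * a) {E : Subgroup X} (h : Star E) (h4 : Nat.card E = 4)
    (hsq : ∀ x ∈ E, x * x = 1) {F : Type*} [Field F] [Fintype F]
    (hF : Fintype.card F % 8 = 3 ∨ Fintype.card F % 8 = 5)
    (e : X ≃* Matrix.ProjectiveSpecialLinearGroup (Fin 2) F) : False := by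
  haveI : Fact (Nat.Prime 2) := ⟨Nat.prime_two⟩
  set Y := Matrix.ProjectiveSpecialLinearGroup (Fin 2) F with hY
  haveI : Nontrivial Y := e.symm.toEquiv.nontrivial
  haveI : IsSimpleGroup Y := IsSimpleGroup.isSimpleGroup_of_surjective e.toMonoidHom e.surjective
  haveI : Finite Y := Finite.of_equiv X e.toEquiv
  have hnaY : ∃ a b : Y, a * b ≠ b * a := by
    obtain ⟨a, b, hab⟩ := hna
    refine ⟨e a, e b, fun h1 => hab (e.injective ?_)⟩
    rw [map_mul, map_mul, h1]
  set E' : Subgroup Y := E.map e.toMonoidHom with hE'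
  have hst : Star E' := star_map e h
  have h4' : Nat.card E' = 4 := by rw [hE', card_map_of_injective e.injective, h4]
  have hsq' : ∀ x ∈ E', x * x = 1 := by
    rintro _ ⟨x, hx, rfl⟩
    have : e (x * x) = 1 := by rw [hsq x hx, map_one]
    rw [map_mul] at this
    exact this
  have hEp : IsPGroup 2 E' := by
    rw [IsPGroup.iff_card]
    exact ⟨2, by rw [h4']; norm_num⟩
  obtain ⟨S, hES⟩ := hEp.exists_le_sylow
  have hSK : IsKleinFour (S : Subgroup Y) := S0276.result rfl hF S
  have hSE : (S : Subgroup Y) = E' :=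
    (eq_of_le_of_card_ge hES (by rw [hSK.card_four, h4'])).symm
  have hodd : Odd (Fintype.card F) := by
    rw [Nat.odd_iff]; omega
  have h2 : (2 : F) ≠ 0 := ClassicalGeometry.SLTwoFour.two_ne_zero_of_odd hodd
  have hcent : ∀ a ∈ (S : Subgroup Y), a ≠ 1 →
      Nat.card (centralizer ({a} : Set Y)) ≤ Fintype.card F + 1 := by
    intro a ha ha1
    have hoa : orderOf a = 2 := orderOf_eq_prime (by rw [pow_two]; exact hsq' a (hSE ▸ ha)) ha1
    rw [TwoFusion.PSLTwoGood.card_centralizer hodd hoa]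
    have := ClassicalGeometry.SLTwoFour.card_circle_add (F := F) hodd
    omega
  have hle := Star.card_le (S := S) (by rw [hSE]; exact hst) (by rw [hSE]; exact h4')
    (by rw [hSE]; exact hsq') hcent
  have h12 := ClassicalGeometry.PSL2Klein.card_klein (F := F) h2
  have hcard := ClassicalGeometry.PSL2Basic.card_PSL2_odd F hodd
  set q := Fintype.card F with hq
  set N := Nat.card {V : Subgroup Y // IsKleinFour V} with hN
  have hq3 : 3 ≤ q := by omega
  obtain ⟨t, ht⟩ := Nat.exists_eq_add_of_le hq3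
  have h24 : 24 * N = q * (q ^ 2 - 1) := by
    rw [← hcard, ← h12]; ring
  have hqq : q ^ 2 - 1 = (t + 2) * (t + 4) := by
    rw [ht]
    have : (3 + t) ^ 2 = (t + 2) * (t + 4) + 1 := by ring
    omega
  rw [hqq, ht] at h24
  rw [ht] at hle
  have h5 : 64 * ((3 + t) * ((t + 2) * (t + 4))) ≤ 24 * (3 + t + 1) ^ 3 := by
    rw [← h24]
    calc 64 * (24 * N) = 24 * (64 * N) := by ring
      _ ≤ 24 * (3 + t + 1) ^ 3 := Nat.mul_le_mul_left _ hle
  have h6 : 8 * ((3 + t) * (t + 2)) ≤ 3 * (t + 4) ^ 2 := by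
    have h7 : (8 * (t + 4)) * (8 * ((3 + t) * (t + 2))) ≤ (8 * (t + 4)) * (3 * (t + 4) ^ 2) := by
      calc (8 * (t + 4)) * (8 * ((3 + t) * (t + 2))) = 64 * ((3 + t) * ((t + 2) * (t + 4))) := by ring
        _ ≤ 24 * (3 + t + 1) ^ 3 := h5
        _ = (8 * (t + 4)) * (3 * (t + 4) ^ 2) := by ring
    exact Nat.le_of_mul_le_mul_left h7 (by omega)
  have ht0 : t = 0 := by
    by_contra hne
    have h8 : 1 ≤ t := Nat.one_le_iff_ne_zero.2 hne
    nlinarith only [hle, h24, h8]
  rw [ht0] at h24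
  have hN1 : N = 1 := by omega
  refine not_normal_of_simple hnaY h4' hsq' ?_
  rw [eq_top_iff]
  intro g _
  refine mem_normalizer_fintype (S := (E' : Set Y)) fun x hx => ?_
  have hEK : IsKleinFour E' := hSE ▸ hSK
  have hV : IsKleinFour (E'.map (MulAut.conj g).toMonoidHom : Subgroup Y) := by
    have hinj : Function.Injective (MulAut.conj g).toMonoidHom := (MulAut.conj g).injective
    refine ⟨by rw [card_map_of_injective hinj]; exact hEK.card_four, ?_⟩
    rw [← Monoid.exponent_eq_of_mulEquiv (E'.equivMapOfInjective _ hinj)]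
    exact hEK.exponent_two
  have huniq := (Nat.card_eq_one_iff_unique.1 hN1).1
  have h9 := huniq.elim (⟨E', hEK⟩ : {V : Subgroup Y // IsKleinFour V}) ⟨_, hV⟩
  have h10 : E' = E'.map (MulAut.conj g).toMonoidHom := congrArg Subtype.val h9
  have h11 : g * x * g⁻¹ ∈ E'.map (MulAut.conj g).toMonoidHom := ⟨x, hx, by simp only [_root_.MulEquiv.toMonoidHom_eq_coe, _root_.MonoidHom.coe_coe, _root_.MulAut.conj_apply]⟩
  rw [← h10] at h11
  exact h11

/-- **The end**: a strongly closed Klein four-group with property `Star` does not exist in a simple group. -/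
theorem false_of_star {X : Type u} [Group X] [Finite X] [IsSimpleGroup X]
    (hna : ∃ a b : X, a * b ≠ b * a) {E : Subgroup X} (h : Star E) (h4 : Nat.card E = 4)
    (hsq : ∀ x ∈ E, x * x = 1) (S : Sylow 2 X) (hsc : IsStronglyClosed E (S : Subgroup X)) :
    False := by
  haveI : Fact (Nat.Prime 2) := ⟨Nat.prime_two⟩
  have hcomm := comm_of_sq hsq
  have hE1 : E ≠ ⊥ := by rintro rfl; rw [card_bot] at h4; omega
  have hEc : IsMulCommutative E := ⟨⟨fun a b => Subtype.ext (hcomm a a.2 b b.2)⟩⟩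
  have hnab : ¬ IsMulCommutative X := by
    intro hc
    obtain ⟨a, b, hab⟩ := hna
    exact hab (hc.is_comm.comm a b)
  rcases S1169.result S E hE1 hEc hsc with hS | ⟨M, hM⟩
  swap
  · exact h.not_stronglyEmbedded h4 hsq M hM
  have hS' : ∀ x ∈ (S : Subgroup X), ∀ y ∈ (S : Subgroup X), x * y = y * x := fun x hx y hy =>
    congrArg Subtype.val (hS.is_comm.comm (⟨x, hx⟩ : (S : Subgroup X)) ⟨y, hy⟩)
  have hPF : Walter.Irreducible.ProductFusion S := fun A B hAB hA hB =>
    TwoFusion.ClosedCommutator.commutator_le S A B hAB hA hB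
  have hEom : E ≤ om (S : Subgroup X) hS' := fun x hx => ⟨hsc.1 hx, hsq x hx⟩
  have hNE : normalizer ((S : Subgroup X) : Set X) ≤ normalizer (E : Set X) := by
    intro n hn
    refine mem_normalizer_fintype (S := (E : Set X)) fun x hx => ?_
    exact hsc.2 x hx n ((mem_normalizer_iff.1 hn x).1 (hsc.1 hx))
  have hom : E = om (S : Subgroup X) hS' :=
    (Walter.Irreducible.eq_bot_or_eq hna S hS' hPF hEom hNE).resolve_left hE1
  -- the order of the Sylow subgroup is not 8
  have hne8 : Nat.card (S : Subgroup X) ≠ 8 := by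
    intro h8
    rcases Walter.Irreducible.elementary_or_squares hna S hS' hPF with hel | hsquare
    · have : (S : Subgroup X) ≤ E := by
        rw [hom]
        exact fun x hx => ⟨hx, hel x hx⟩
      have := Subgroup.card_le_of_le this
      omega
    · let φ : (S : Subgroup X) →* (S : Subgroup X) :=
        { toFun := fun u => u * u
          map_one' := one_mul 1
          map_mul' := by
            intro u v
            have h1 := hS.is_comm.comm u v
            calc u * v * (u * v) = u * (v * u) * v := by group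
              _ = u * (u * v) * v := by rw [h1]
              _ = u * u * (v * v) := by group }
      have hker : Nat.card φ.ker = 4 := by
        rw [← h4]
        refine Nat.card_congr
          { toFun := fun x => ⟨x.1, by rw [hom]; exact ⟨x.1.2, congrArg Subtype.val x.2⟩⟩
            invFun := fun x => ⟨⟨x.1, hsc.1 x.2⟩, Subtype.ext (hsq x.1 x.2)⟩
            left_inv := fun x => rfl
            right_inv := fun x => rfl }
      have hrange : 4 ≤ Nat.card φ.range := by
        rw [← h4]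
        refine Nat.card_le_card_of_injective
          (fun x : E => (⟨⟨x.1, hsc.1 x.2⟩, ?_⟩ : φ.range)) ?_
        · obtain ⟨u, hu, huu⟩ := hsquare x.1 (hsc.1 x.2) (hsq x.1 x.2)
          exact ⟨⟨u, hu⟩, Subtype.ext huu⟩
        · intro x y hxy
          have h1 := congrArg (fun z : φ.range => ((z : (S : Subgroup X)) : X)) hxy
          exact Subtype.ext h1
      have hprod := φ.ker.card_mul_index
      rw [Subgroup.index_ker, hker, h8] at hprod
      omega
  rcases S0506.result hnab S hS with ⟨a, ha, F, _, _, hF, ⟨e⟩⟩ | ⟨F, _, _, hF, ⟨e⟩⟩ | hRee | hJ1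
  · -- characteristic two
    haveI : CharP F 2 := by
      obtain ⟨p, hp⟩ := CharP.exists F
      haveI := hp
      have hpp : p.Prime := CharP.char_is_prime F p
      obtain ⟨n, _, hn⟩ := FiniteField.card F p
      have h2 : p = 2 := by
        have h1 : p ∣ 2 ^ a := by rw [← hF, hn]; exact dvd_pow_self p n.ne_zero
        exact (Nat.prime_dvd_prime_iff_eq hpp Nat.prime_two).1 (hpp.dvd_of_dvd_pow h1)
      subst h2
      exact hp
    refine not_normal_of_simple hna h4 hsq (h.eq_top h4 hsq le_rfl ?_)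
    intro x hx hx1
    have hCsq : ∀ y ∈ centralizer ({x} : Set X), y * y = 1 := by
      intro y hy
      have h1 := mem_centralizer_singleton_iff.1 hy
      apply e.injective
      rw [map_mul, map_one]
      refine PslEven.sq_of_comm (x := e x) ?_ ?_ ?_
      · rw [← map_mul, hsq x hx, map_one]
      · intro h2
        exact hx1 (e.injective (by rw [h2, map_one]))
      · rw [← map_mul, ← map_mul, h1]
    have hCc := comm_of_sq hCsq
    intro c hc
    refine mem_normalizer_fintype (S := (E : Set X)) fun y hy => ?_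
    have hyC : y ∈ centralizer ({x} : Set X) :=
      mem_centralizer_singleton_iff.2 (hcomm y hy x hx)
    have h1 : c * y * c⁻¹ = y := by rw [hCc c hc y hyC]; group
    rw [h1]; exact hy
  · -- odd characteristic
    exact false_of_psl hna h h4 hsq hF e
  · obtain ⟨_, m, hm, hcard⟩ := hRee
    have h9 : 3 ^ (2 * m + 1) % 8 = 3 := by
      rw [pow_succ, pow_mul, Nat.mul_mod, Nat.pow_mod]
      norm_num
    obtain ⟨j, hj⟩ : ∃ j, 3 ^ (2 * m + 1) = 8 * j + 3 := ⟨3 ^ (2 * m + 1) / 8, by omega⟩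
    rw [hj] at hcard
    have h10 : 8 * j + 3 - 1 = 8 * j + 2 := by (clear * -; omega)
    rw [h10] at hcard
    refine hne8 (two_part (k := (8 * j + 3) ^ 3 * ((2 * j + 1) * (64 * j ^ 2 + 40 * j + 7) * (4 * j + 1)))
      ?_ ?_ hcard S)
    · ring
    · refine Odd.mul (Odd.pow ⟨4 * j + 1, by ring⟩) (Odd.mul (Odd.mul ⟨j, by ring⟩ ?_) ⟨2 * j, by ring⟩)
      exact ⟨32 * j ^ 2 + 20 * j + 3, by ring⟩
  · exact hne8 (two_part (k := 21945) (by norm_num) (by decide) hJ1.2 S)

end Cfsg.Agent.H266.Four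
end
end

-- part: H266/Simple
section
prune_inst 0x100001410000120000040002100020811100010200400001d14601060006d400000021414800180800102a00000000000000005000000000008404000000002080aa50009208009524000f80328b190c0000800000000000000080000004100001c010000
set_option linter.all false
open scoped Cfsg.Agent.FastGrp

-- part: H266/EC
section
/-!
# Extremely closed abelian `p`-subgroups: basic facts

`EC p H` : `H` is an extremely closed abelian `p`-subgroup of `G`. For every `g` the group `⟨H, gHg⁻¹⟩` is `H Q` with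
`Q` a normal `p'`-subgroup, `Q ∩ N_G(H) = 1` (`exists_core`); consequences for subgroups and quotients.
-/

set_option autoImplicit false
set_option linter.style.haveILetI false

namespace Cfsg.Agent.H266

open Subgroup Cfsg

theorem mem_sup_norm {G : Type*} [Group G] {A B : Subgroup G} (h : A ≤ normalizer (B : Set G))
    {x : G} (hx : x ∈ A ⊔ B) : ∃ a ∈ A, ∃ b ∈ B, a * b = x := by
  have h1 : x ∈ ((A ⊔ B : Subgroup G) : Set G) := hx
  rw [coe_mul_of_left_le_normalizer_right A B h] at h1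
  exact Set.mem_mul.1 h1

/-- `H` is an extremely closed abelian `p`-subgroup. -/
structure EC (p : ℕ) {G : Type*} [Group G] (H : Subgroup G) : Prop where
  pg : IsPGroup p H
  ab : ∀ a ∈ H, ∀ b ∈ H, a * b = b * a
  cl : IsExtremelyClosed H

namespace EC

variable {G : Type*} [Group G] {p : ℕ} {H : Subgroup G}

theorem of_comm (hp : IsPGroup p H) (hc : IsMulCommutative H) (hcl : IsExtremelyClosed H) : EC p H :=
  ⟨hp, fun a ha b hb => congrArg Subtype.val (hc.is_comm.comm (⟨a, ha⟩ : H) ⟨b, hb⟩), hcl⟩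

theorem isMulCommutative (h : EC p H) : IsMulCommutative H :=
  ⟨⟨fun a b => Subtype.ext (h.ab a a.2 b b.2)⟩⟩

/-- The structure of `⟨H, gHg⁻¹⟩`. -/
theorem exists_core [Finite G] [Fact p.Prime] (h : EC p H) (g : G) :
    ∃ Q : Subgroup G, (Nat.card Q).Coprime p ∧
      H ⊔ H.map (MulAut.conj g).toMonoidHom ≤ normalizer (Q : Set G) ∧
      H ⊔ Q = H ⊔ H.map (MulAut.conj g).toMonoidHom ∧ Q ⊓ normalizer (H : Set G) = ⊥ ∧
      ∃ k ∈ Q, k⁻¹ * g ∈ normalizer (H : Set G) := by
  set T : Subgroup G := H ⊔ H.map (MulAut.conj g).toMonoidHom with hT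
  obtain ⟨h1, h2⟩ := Cfsg.Agent.S3020.result H h.pg h.isMulCommutative h.cl g T hT
  set Q : Subgroup G := (pPrimeCore p T).map T.subtype with hQ
  have hQT : Q ≤ T := map_subtype_le _
  have hcop : (Nat.card Q).Coprime p := Lib.LocalCore.card_map_pPrimeCore_coprime p T
  have hTQ : T ≤ normalizer (Q : Set G) := Lib.LocalCore.le_normalizer_map_pPrimeCore p T
  have hQN : Q ⊓ normalizer (H : Set G) = ⊥ := by
    rw [eq_bot_iff, ← h2]
    rintro x ⟨hxQ, hxN⟩
    refine ⟨?_, hxQ⟩
    rw [← h.cl g, ← hT]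
    exact ⟨hQT hxQ, hxN⟩
  refine ⟨Q, hcop, hTQ, h1, hQN, ?_⟩
  -- work inside `T`
  have hHT : H ≤ T := le_sup_left
  have hN : (Q.subgroupOf T).Normal := normal_subgroupOf_of_le_normalizer hTQ
  have hQc : (Nat.card (Q.subgroupOf T)).Coprime p := by
    rw [Nat.card_congr (subgroupOfEquivOfLe hQT).toEquiv]; exact hcop
  -- `H` and `gHg⁻¹` are Sylow subgroups of `T`
  have hidx : (Q.subgroupOf T ⊔ H.subgroupOf T : Subgroup T) = ⊤ := by
    rw [sup_comm, ← subgroupOf_sup hHT hQT, h1, subgroupOf_self]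
  have hHpT : IsPGroup p (H.subgroupOf T) := h.pg.of_equiv (subgroupOfEquivOfLe hHT).symm
  -- a Sylow subgroup of T containing H is H
  have hsyl : ∀ P : Subgroup T, IsPGroup p P → H.subgroupOf T ≤ P → P = H.subgroupOf T := by
    intro P hP hle
    refine le_antisymm ?_ hle
    intro x hx
    have hxT : x ∈ (H.subgroupOf T ⊔ Q.subgroupOf T : Subgroup T) := by
      rw [sup_comm, hidx]; trivial
    obtain ⟨a, ha, q, hq, rfl⟩ := mem_sup_of_normal_right.1 hxT
    have hqP : q ∈ P := by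
      have := P.mul_mem (P.inv_mem (hle ha)) hx
      rwa [inv_mul_cancel_left] at this
    have hq1 : q = 1 := by
      have hd : (P ⊓ Q.subgroupOf T : Subgroup T) = ⊥ := by
        obtain ⟨n, hn⟩ := hP.exists_card_eq
        refine (disjoint_of_coprime_natCard ?_).eq_bot
        rw [hn]
        exact (hQc.pow_right n).symm
      have : q ∈ (P ⊓ Q.subgroupOf T : Subgroup T) := ⟨hqP, hq⟩
      rwa [hd, mem_bot] at this
    rw [hq1, mul_one]
    exact ha
  obtain ⟨P, hP⟩ := hHpT.exists_le_sylow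
  have hPH : (P : Subgroup T) = H.subgroupOf T := hsyl P P.isPGroup' hP
  -- the conjugate
  set H' : Subgroup G := H.map (MulAut.conj g).toMonoidHom with hH'
  have hH'T : H' ≤ T := le_sup_right
  have hH'p : IsPGroup p (H'.subgroupOf T) := by
    have : IsPGroup p H' := h.pg.map _
    exact this.of_equiv (subgroupOfEquivOfLe hH'T).symm
  obtain ⟨P', hP'⟩ := hH'p.exists_le_sylow
  obtain ⟨t, ht⟩ := MulAction.exists_smul_eq T P P'
  have hcard : Nat.card H' = Nat.card H :=
    (Nat.card_congr (H.equivMapOfInjective _ (MulAut.conj g).injective).toEquiv).symm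
  have hP'H' : (P' : Subgroup T) = H'.subgroupOf T := by
    refine (eq_of_le_of_card_ge hP' ?_).symm
    have e1 : Nat.card (P' : Subgroup T) = Nat.card (P : Subgroup T) :=
      P'.card_eq_multiplicity.trans P.card_eq_multiplicity.symm
    rw [Nat.card_congr (subgroupOfEquivOfLe hH'T).toEquiv, hcard, e1, hPH,
      Nat.card_congr (subgroupOfEquivOfLe hHT).toEquiv]
  -- write `t = k * a`
  have htT : t ∈ (Q.subgroupOf T ⊔ H.subgroupOf T : Subgroup T) := by rw [hidx]; trivial
  obtain ⟨k, hk, a, ha, hka⟩ := mem_sup_of_normal_left.1 htT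
  refine ⟨k, hk, ?_⟩
  have hkey : ∀ x ∈ H, g * x * g⁻¹ ∈ H.map (MulAut.conj (k : G)).toMonoidHom := by
    intro x hx
    have hx' : g * x * g⁻¹ ∈ H' := ⟨x, hx, by simp⟩
    have h3 : (⟨g * x * g⁻¹, hH'T hx'⟩ : T) ∈ (P' : Subgroup T) := by
      rw [hP'H']; exact hx'
    rw [← ht] at h3
    have h4 : t⁻¹ • (⟨g * x * g⁻¹, hH'T hx'⟩ : T) = t⁻¹ * ⟨g * x * g⁻¹, hH'T hx'⟩ := rfl
    have h5 : t⁻¹ * (⟨g * x * g⁻¹, hH'T hx'⟩ : T) * t ∈ (P : Subgroup T) := by
      rw [Sylow.coe_subgroup_smul, Subgroup.mem_pointwise_smul_iff_inv_smul_mem] at h3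
      simpa only [MulAut.smul_def, MulAut.conj_apply, mul_assoc, _root_.MulAut.inv_apply, _root_.MulAut.conj_symm_apply] using h3
    rw [hPH, mem_subgroupOf] at h5
    have h6 : (t : G) = k * a := by rw [← hka]; rfl
    rw [Subgroup.coe_mul, Subgroup.coe_mul, Subgroup.coe_inv, h6] at h5
    have h7 := H.mul_mem (H.mul_mem ha h5) (H.inv_mem ha)
    refine ⟨(a : G) * (((k : G) * a)⁻¹ * (g * x * g⁻¹) * ((k : G) * a)) * (a : G)⁻¹, h7, ?_⟩
    simp only [MulEquiv.toMonoidHom_eq_coe, MonoidHom.coe_coe, MulAut.conj_apply]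
    group
  refine mem_normalizer_fintype (S := (H : Set G)) ?_
  intro x hx
  obtain ⟨y, hy, hyx⟩ := hkey x hx
  have h8 : (k : G) * y * (k : G)⁻¹ = g * x * g⁻¹ := by simpa only [_root_.MulEquiv.toMonoidHom_eq_coe, _root_.MonoidHom.coe_coe, _root_.MulAut.conj_apply] using hyx
  have : (k : G)⁻¹ * g * x * ((k : G)⁻¹ * g)⁻¹ = y := by
    calc (k : G)⁻¹ * g * x * ((k : G)⁻¹ * g)⁻¹ = (k : G)⁻¹ * (g * x * g⁻¹) * k := by group
      _ = y := by rw [← h8]; group
  rw [this]
  exact hy

/-- Inheritance by subgroups. -/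
theorem subgroupOf (h : EC p H) {L : Subgroup G} (hHL : H ≤ L) : EC p (H.subgroupOf L) := by
  refine ⟨h.pg.of_equiv (subgroupOfEquivOfLe hHL).symm, ?_, ?_⟩
  · intro a ha b hb
    exact Subtype.ext (h.ab a ha b hb)
  · intro g
    refine le_antisymm ?_ (le_inf le_sup_left le_normalizer)
    rintro x ⟨hx1, hx2⟩
    rw [mem_subgroupOf, ← h.cl (g : G)]
    constructor
    · have hle : (H.subgroupOf L ⊔ (H.subgroupOf L).map (MulAut.conj g).toMonoidHom).map L.subtype ≤
          H ⊔ H.map (MulAut.conj (g : G)).toMonoidHom := by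
        rw [Subgroup.map_sup]
        refine sup_le_sup ?_ ?_
        · rw [subgroupOf_map_subtype]; exact inf_le_left
        · rintro _ ⟨_, ⟨y, hy, rfl⟩, rfl⟩
          exact ⟨y, hy, by simp only [_root_.MulEquiv.toMonoidHom_eq_coe, _root_.MonoidHom.coe_coe, _root_.MulAut.conj_apply, _root_.Subgroup.subtype_apply, _root_.Subgroup.coe_mul, _root_.InvMemClass.coe_inv]⟩
      exact hle ⟨x, hx1, rfl⟩
    · rw [← subgroupOf_normalizer_eq hHL] at hx2
      exact hx2

/-- Images in quotients. -/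
theorem map_mk [Finite G] [Fact p.Prime] (h : EC p H) (N : Subgroup G) [N.Normal] :
    EC p (H.map (QuotientGroup.mk' N)) := by
  refine ⟨h.pg.map _, ?_, ?_⟩
  · rintro _ ⟨a, ha, rfl⟩ _ ⟨b, hb, rfl⟩
    rw [← map_mul, ← map_mul, h.ab a ha b hb]
  · intro g'
    obtain ⟨g, rfl⟩ := QuotientGroup.mk'_surjective N g'
    set f := QuotientGroup.mk' N with hf
    obtain ⟨Q, hQ, hTQ, hHQ, hQN, -⟩ := h.exists_core g
    have hmap : (H.map f) ⊔ (H.map f).map (MulAut.conj (f g)).toMonoidHom =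
        (H ⊔ H.map (MulAut.conj g).toMonoidHom).map f := by
      rw [Subgroup.map_sup, Subgroup.map_map, Subgroup.map_map]
      congr 2
    refine le_antisymm ?_ (le_inf le_sup_left le_normalizer)
    intro y hy
    obtain ⟨hy1, hy2⟩ := mem_inf.1 hy
    rw [hmap, ← hHQ] at hy1
    have hHNQ : H ≤ normalizer (Q : Set G) := le_trans le_sup_left hTQ
    obtain ⟨_, ht, rfl⟩ := hy1
    obtain ⟨a, ha, q, hq, rfl⟩ := mem_sup_norm hHNQ ht
    rw [map_mul] at hy2 ⊢
    have hfa : f a ∈ H.map f := ⟨a, ha, rfl⟩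
    refine mul_mem hfa ?_
    have hfq : f q ∈ normalizer ((H.map f : Subgroup (G ⧸ N)) : Set (G ⧸ N)) := by
      have := mul_mem (inv_mem (le_normalizer hfa)) hy2
      rwa [inv_mul_cancel_left] at this
    -- `f q` centralises `H`
    have hdisj : H.map f ⊓ Q.map f = ⊥ := by
      obtain ⟨n, hn⟩ := (h.pg.map f).exists_card_eq
      refine (disjoint_of_coprime_natCard ?_).eq_bot
      rw [hn]
      refine Nat.Coprime.pow_left n (Nat.Coprime.symm ?_)
      exact Nat.Coprime.coprime_dvd_left (Subgroup.card_map_dvd Q f) hQ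
    have hcent : ∀ b ∈ H, q⁻¹ * (b * q * b⁻¹) ∈ N ⊓ Q := by
      intro b hb
      have hbq : b * q * b⁻¹ ∈ Q := (mem_normalizer_iff.1 (hHNQ hb) q).1 hq
      refine mem_inf.2 ⟨?_, mul_mem (inv_mem hq) hbq⟩
      rw [← QuotientGroup.eq_one_iff, ← QuotientGroup.mk'_apply]
      have h1 : f (q⁻¹ * (b * q * b⁻¹)) ∈ (H.map f ⊓ Q.map f : Subgroup (G ⧸ N)) := by
        refine mem_inf.2 ⟨?_, ⟨_, mul_mem (inv_mem hq) hbq, rfl⟩⟩
        have h2 : f q⁻¹ * f b * f q ∈ H.map f := by
          have h3 := (mem_normalizer_iff''.1 hfq (f b)).1 ⟨b, hb, rfl⟩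
          simpa only [_root_.map_inv, _root_.Subgroup.mem_map] using h3
        have h4 : f (q⁻¹ * (b * q * b⁻¹)) = (f q⁻¹ * f b * f q) * f b⁻¹ := by
          simp only [map_mul, mul_assoc]
        rw [h4]
        exact mul_mem h2 ⟨b⁻¹, inv_mem hb, rfl⟩
      rwa [hdisj, mem_bot] at h1
    have hHNQ' : H ≤ normalizer ((N ⊓ Q : Subgroup G) : Set G) := by
      intro b hb
      refine mem_normalizer_iff.2 fun y => ?_
      have h1 := mem_normalizer_iff.1 (hHNQ hb) y
      have h2 : y ∈ N ↔ b * y * b⁻¹ ∈ N := by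
        constructor
        · intro hy; exact Normal.conj_mem inferInstance y hy b
        · intro hy
          have := Normal.conj_mem (inferInstance : N.Normal) _ hy b⁻¹
          simpa [mul_assoc] using this
      exact ⟨fun hy => ⟨h2.1 hy.1, h1.1 hy.2⟩, fun hy => ⟨h2.2 hy.1, h1.2 hy.2⟩⟩
    have hpNQ : ¬ p ∣ Nat.card ↥(N ⊓ Q : Subgroup G) := by
      have h1 : (Nat.card ↥(N ⊓ Q : Subgroup G)).Coprime p :=
        Nat.Coprime.coprime_dvd_left (card_dvd_of_le inf_le_right) hQ
      intro hd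
      have := Nat.Coprime.eq_one_of_dvd h1.symm hd
      exact (Fact.out : p.Prime).one_lt.ne' this
    obtain ⟨c, hc, hqc⟩ := Lib.CoprimeCommutator.exists_fixed_in_coset p H (N ⊓ Q) h.pg hHNQ' hpNQ q hcent
    have hcQ : c ∈ Q := by
      have := mul_mem hq (mem_inf.1 hqc).2
      rwa [mul_inv_cancel_left] at this
    have hc1 : c = 1 := by
      have : c ∈ Q ⊓ normalizer (H : Set G) := ⟨hcQ, centralizer_le_normalizer _ hc⟩
      rwa [hQN, mem_bot] at this
    have hqN : q ∈ N := by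
      have := (mem_inf.1 hqc).1
      rw [hc1, mul_one] at this
      simpa using inv_mem this
    have : f q = 1 := by rw [hf, QuotientGroup.mk'_apply, QuotientGroup.eq_one_iff]; exact hqN
    rw [this]
    exact one_mem _

end EC

end Cfsg.Agent.H266
end

-- part: H266/Reduce
section
/-!
# Extremely closed abelian `p`-subgroups: the factorization `G = N_G(H) O_{p'}(G)`, reductions

`Fac p H : N_G(H) O_{p'}(G) = G`.
-/

set_option autoImplicit false
set_option linter.style.haveILetI false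

namespace Cfsg.Agent.H266

open Subgroup Cfsg

universe u

/-- `G = N_G(H) O_{p'}(G)`. -/
def Fac (p : ℕ) {G : Type*} [Group G] (H : Subgroup G) : Prop :=
  normalizer (H : Set G) ⊔ pPrimeCore p G = ⊤

/-- The induction hypothesis. -/
def IH (p : ℕ) (G : Type u) [Group G] : Prop :=
  ∀ (G' : Type u) [Group G'] [Finite G'] (H' : Subgroup G'), EC p H' → Nat.card G' < Nat.card G →
    Fac p H'

namespace EC

variable {G : Type u} [Group G] {p : ℕ} {H : Subgroup G}

theorem prime_not_dvd_of_coprime [Fact p.Prime] {n : ℕ} (h : n.Coprime p) : ¬ p ∣ n := by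
  intro hd
  exact (Fact.out : p.Prime).one_lt.ne' (Nat.Coprime.eq_one_of_dvd h.symm hd)

/-- If a `p`-group and a `p'`-group. -/
theorem inf_eq_bot [Fact p.Prime] [Finite G] {A B : Subgroup G} (hA : IsPGroup p A)
    (hB : (Nat.card B).Coprime p) : A ⊓ B = ⊥ := by
  obtain ⟨n, hn⟩ := hA.exists_card_eq
  refine (disjoint_of_coprime_natCard ?_).eq_bot
  rw [hn]
  exact (hB.pow_right n).symm

/-- Reduction modulo the `p'`-core. -/
theorem fac_of_pPrimeCore_ne_bot [Finite G] [Fact p.Prime] (h : EC p H) (ih : IH p G)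
    (hne : pPrimeCore p G ≠ ⊥) : Fac p H := by
  set N := pPrimeCore p G with hN
  haveI : N.Normal := Lib.Cores.pPrimeCore_normal p
  have hcard : Nat.card (G ⧸ N) < Nat.card G := by
    have h1 := N.card_eq_card_quotient_mul_card_subgroup
    have h2 : 1 < Nat.card N := by
      by_contra hle
      exact hne (N.eq_bot_of_card_le (not_lt.1 hle))
    have h3 : 0 < Nat.card (G ⧸ N) := Nat.card_pos
    rw [h1]
    nlinarith only [h2, h3]
  have h1 := ih (G ⧸ N) _ (h.map_mk N) hcard
  unfold Fac at h1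
  have h0 : pPrimeCore p (G ⧸ N) = ⊥ := Lib.Cores.pPrimeCore_quotient_pPrimeCore p
  rw [h0, sup_bot_eq] at h1
  unfold Fac
  rw [eq_top_iff]
  intro g _
  have h2 : ∀ x ∈ H, g * x * g⁻¹ ∈ H ⊔ N := by
    intro x hx
    have h3 : QuotientGroup.mk' N g ∈ normalizer ((H.map (QuotientGroup.mk' N) : Subgroup (G ⧸ N)) :
        Set (G ⧸ N)) := by rw [h1]; trivial
    have h4 := (mem_normalizer_iff.1 h3 (QuotientGroup.mk' N x)).1 ⟨x, hx, rfl⟩
    rw [← map_mul, ← map_inv, ← map_mul] at h4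
    have : (H.map (QuotientGroup.mk' N)).comap (QuotientGroup.mk' N) = H ⊔ N := by
      rw [Subgroup.comap_map_eq, QuotientGroup.ker_mk']
    rw [← this]
    exact h4
  obtain ⟨n, hn, hng⟩ := Lib.LocalCore.exists_mul_mem_normalizer p N H
    (Lib.Cores.pPrimeCore_coprime p) h.pg h2
  have : g = n⁻¹ * (n * g) := by group
  rw [this]
  exact mul_mem (mem_sup_right (inv_mem hn)) (mem_sup_left hng)

/-- Conjugation by elements of the normaliser. -/
theorem pCore_le_normalizer [Finite G] [Fact p.Prime] (h : EC p H) :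
    pCore p G ≤ normalizer (H : Set G) := by
  have h1 : IsPGroup p ↥(H ⊔ pCore p G : Subgroup G) :=
    h.pg.to_sup_of_normal_right (Lib.Cores.pCore_isPGroup p)
  exact le_trans (le_trans le_sup_right le_normalizer)
    (Cfsg.Agent.S3021.normalizer_le H h.cl _ h1 le_sup_left)

theorem mem_pow_conj {A : Subgroup G} {g : G} (hg : g ∈ normalizer (A : Set G)) {x : G} (hx : x ∈ A) :
    g * x * g⁻¹ ∈ A := (mem_normalizer_iff.1 hg x).1 hx

/-- For a normal `p`-subgroup `N` (normalising `H`) the groups `O_{p'}(⟨H, gHg⁻¹⟩)` centralise `N`. -/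
theorem core_centralizes [Finite G] [Fact p.Prime] (h : EC p H) (N : Subgroup G) [N.Normal]
    (hNp : IsPGroup p N) (hNH : N ≤ normalizer (H : Set G)) (g : G) (Q : Subgroup G)
    (hQ : (Nat.card Q).Coprime p)
    (hTQ : H ⊔ H.map (MulAut.conj g).toMonoidHom ≤ normalizer (Q : Set G))
    (hHQ : H ⊔ Q = H ⊔ H.map (MulAut.conj g).toMonoidHom)
    (k : G) (hk : k ∈ Q) (hkg : k⁻¹ * g ∈ normalizer (H : Set G)) :
    Q ≤ centralizer (N : Set G) := by
  set T := H ⊔ H.map (MulAut.conj g).toMonoidHom with hT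
  set D := H ⊓ N with hD
  have hNQ : N ⊓ Q = ⊥ := inf_eq_bot hNp hQ
  have hNn : ∀ (y : G), y ∈ normalizer (N : Set G) := fun y =>
    (normalizer_eq_top (H := N)) ▸ mem_top y
  -- `Q` centralises `D`
  have hQD : ∀ q ∈ Q, ∀ d ∈ D, q * d = d * q := by
    intro q hq d hd
    obtain ⟨hdH, hdN⟩ := mem_inf.1 hd
    have h1 : q * d * q⁻¹ * d⁻¹ ∈ N := mul_mem (mem_pow_conj (hNn q) hdN) (inv_mem hdN)
    have h2 : q * d * q⁻¹ * d⁻¹ ∈ Q := by
      have h3 : d * q⁻¹ * d⁻¹ ∈ Q := mem_pow_conj (hTQ (mem_sup_left hdH)) (inv_mem hq)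
      have h4 : q * d * q⁻¹ * d⁻¹ = q * (d * q⁻¹ * d⁻¹) := by group
      rw [h4]; exact mul_mem hq h3
    have h5 : q * d * q⁻¹ * d⁻¹ ∈ N ⊓ Q := mem_inf.2 ⟨h1, h2⟩
    rw [hNQ, mem_bot] at h5
    have h6 : q * d * q⁻¹ = d := mul_inv_eq_one.1 h5
    calc q * d = (q * d * q⁻¹) * q := by group
      _ = d * q := by rw [h6]
  -- `[n, a] ∈ D` for `a ∈ H`
  have hNHD : ∀ a ∈ H, ∀ n ∈ N, n * a * n⁻¹ * a⁻¹ ∈ D := by
    intro a ha n hn
    refine mem_inf.2 ⟨mul_mem (mem_pow_conj (hNH hn) ha) (inv_mem ha), ?_⟩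
    have h1 : a * n⁻¹ * a⁻¹ ∈ N := mem_pow_conj (hNn a) (inv_mem hn)
    have h2 : n * a * n⁻¹ * a⁻¹ = n * (a * n⁻¹ * a⁻¹) := by group
    rw [h2]; exact mul_mem hn h1
  -- conjugation by `g` fixes `D`
  have hgD : ∀ d ∈ D, g * d * g⁻¹ ∈ D := by
    intro d hd
    obtain ⟨hdH, hdN⟩ := mem_inf.1 hd
    have h1 : (k⁻¹ * g) * d * (k⁻¹ * g)⁻¹ ∈ D :=
      mem_inf.2 ⟨mem_pow_conj hkg hdH, mem_pow_conj (hNn _) hdN⟩
    have h2 := hQD k hk _ h1
    have h3 : g * d * g⁻¹ = k * ((k⁻¹ * g) * d * (k⁻¹ * g)⁻¹) * k⁻¹ := by group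
    rw [h3, h2]
    simpa only [mul_assoc, _root_.mul_inv_rev, _root_.inv_inv, _root_.mul_inv_cancel, _root_.mul_one] using h1
  -- the subgroup of elements `t` with `[n, t] ∈ D` and normalising `D`
  let S : Subgroup G :=
    { carrier := {t | (∀ n ∈ N, n * t * n⁻¹ * t⁻¹ ∈ D) ∧ t ∈ normalizer (D : Set G)}
      one_mem' := by
        refine ⟨fun n _ => ?_, one_mem _⟩
        simp
      mul_mem' := by
        rintro s t ⟨hs, hsD⟩ ⟨ht, htD⟩
        refine ⟨fun n hn => ?_, mul_mem hsD htD⟩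
        have h1 : n * (s * t) * n⁻¹ * (s * t)⁻¹ =
            (n * s * n⁻¹ * s⁻¹) * (s * (n * t * n⁻¹ * t⁻¹) * s⁻¹) := by group
        rw [h1]
        exact mul_mem (hs n hn) (mem_pow_conj hsD (ht n hn))
      inv_mem' := by
        rintro s ⟨hs, hsD⟩
        refine ⟨fun n hn => ?_, inv_mem hsD⟩
        have h1 : n * s⁻¹ * n⁻¹ * s⁻¹⁻¹ = (s⁻¹ * (n * s * n⁻¹ * s⁻¹) * s⁻¹⁻¹)⁻¹ := by group
        rw [h1]
        exact inv_mem (mem_pow_conj (inv_mem hsD) (hs n hn)) }
  have hHS : H ≤ S := by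
    intro a ha
    refine ⟨fun n hn => hNHD a ha n hn, ?_⟩
    refine mem_normalizer_fintype (S := (D : Set G)) fun d hd => ?_
    have h1 : a * d * a⁻¹ = d := by
      rw [h.ab a ha d (mem_inf.1 hd).1]; group
    rw [h1]; exact hd
  have hgS : H.map (MulAut.conj g).toMonoidHom ≤ S := by
    rintro _ ⟨a, ha, rfl⟩
    simp only [MulEquiv.toMonoidHom_eq_coe, MonoidHom.coe_coe, MulAut.conj_apply]
    constructor
    · intro n hn
      have h1 : g⁻¹ * n * g ∈ N := by
        have := mem_pow_conj (hNn g⁻¹) hn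
        simpa using this
      have h2 := hgD _ (hNHD a ha _ h1)
      have h3 : n * (g * a * g⁻¹) * n⁻¹ * (g * a * g⁻¹)⁻¹ =
          g * (g⁻¹ * n * g * a * (g⁻¹ * n * g)⁻¹ * a⁻¹) * g⁻¹ := by group
      rw [h3]; exact h2
    · refine mem_normalizer_fintype (S := (D : Set G)) fun d hd => ?_
      have hgN : g ∈ normalizer (D : Set G) := mem_normalizer_fintype (S := (D : Set G)) hgD
      have h1 : g⁻¹ * d * g ∈ D := by
        have := mem_pow_conj (inv_mem hgN) hd
        simpa using this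
      have h2 : a * (g⁻¹ * d * g) * a⁻¹ = g⁻¹ * d * g := by
        rw [h.ab a ha _ (mem_inf.1 h1).1]; group
      have h3 : g * a * g⁻¹ * d * (g * a * g⁻¹)⁻¹ = g * (a * (g⁻¹ * d * g) * a⁻¹) * g⁻¹ := by group
      rw [h3, h2]
      have h4 : g * (g⁻¹ * d * g) * g⁻¹ = d := by group
      rw [h4]; exact hd
  have hQS : Q ≤ S := by
    have : Q ≤ T := by rw [← hHQ]; exact le_sup_right
    exact le_trans this (sup_le hHS hgS)
  refine Lib.CoprimeStab.le_centralizer_of_commutator_le (H := N) (A := Q) (K := D) ?_ inf_le_right ?_ ?_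
  · obtain ⟨n, hn⟩ := hNp.exists_card_eq
    rw [hn]
    exact hQ.pow_right n
  · rw [commutator_le]
    intro n hn q hq
    exact (hQS hq).1 n hn
  · intro q hq
    exact mem_centralizer_iff.2 fun d hd => (hQD q hq d hd).symm

/-- Elements of order prime to `p` of `H ⊔ C`, `C` normal, lie in `C`. -/
theorem index_coprime_aux [Finite G] [Fact p.Prime] (h : IsPGroup p H) (C : Subgroup G) [C.Normal]
    (htop : H ⊔ C = ⊤) {n : ℕ} (hn : n.Coprime p) : n.Coprime C.index := by
  have h1 : C.index = C.relIndex H := by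
    rw [← Subgroup.relIndex_top_right, ← htop, Subgroup.relIndex_sup_right]
  have h2 : C.relIndex H ∣ Nat.card H := by
    exact (C.subgroupOf H).index_dvd_card
  obtain ⟨k, hk⟩ := h.exists_card_eq
  rw [hk, ← h1] at h2
  exact Nat.Coprime.coprime_dvd_right h2 (hn.pow_right k)

theorem fac_of_normal [Finite G] (hN : H.Normal) : Fac p H := by
  unfold Fac
  rw [normalizer_eq_top_iff.2 hN, top_sup_eq]

/-- The induction hypothesis for a proper subgroup containing `H` with trivial `p'`-core: it normalises `H`. -/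
theorem le_normalizer_of_lt [Finite G] [Fact p.Prime] (h : EC p H) (ih : IH p G) (L : Subgroup G)
    (hHL : H ≤ L) (hL : L ≠ ⊤) (hcore : pPrimeCore p L = ⊥) : L ≤ normalizer (H : Set G) := by
  have hcard : Nat.card L < Nat.card G := by
    rcases lt_or_eq_of_le (Nat.card_le_card_of_injective _ L.subtype_injective) with h1 | h1
    · exact h1
    · exact absurd (L.eq_top_of_card_eq h1) hL
  have h1 := ih L _ (h.subgroupOf hHL) hcard
  unfold Fac at h1
  rw [hcore, sup_bot_eq, ← subgroupOf_normalizer_eq hHL, subgroupOf_eq_top] at h1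
  exact h1

/-- The induction hypothesis for a proper subgroup containing `H`. -/
theorem le_sup_of_lt [Finite G] [Fact p.Prime] (h : EC p H) (ih : IH p G) (L : Subgroup G)
    (hHL : H ≤ L) (hL : L ≠ ⊤) :
    L = (normalizer (H : Set G) ⊓ L) ⊔ (pPrimeCore p L).map L.subtype := by
  have hcard : Nat.card L < Nat.card G := by
    rcases lt_or_eq_of_le (Nat.card_le_card_of_injective _ L.subtype_injective) with h1 | h1
    · exact h1
    · exact absurd (L.eq_top_of_card_eq h1) hL
  have h1 := ih L _ (h.subgroupOf hHL) hcard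
  unfold Fac at h1
  have h2 := congrArg (Subgroup.map L.subtype) h1
  rw [Subgroup.map_sup, ← subgroupOf_normalizer_eq hHL, subgroupOf_map_subtype,
    ← MonoidHom.range_eq_map, range_subtype] at h2
  exact h2.symm

/-- Reduction to `O_p(G) = 1`. -/
theorem fac_of_pCore_ne_bot [Finite G] [Fact p.Prime] (h : EC p H) (ih : IH p G)
    (hcore : pPrimeCore p G = ⊥) (hne : pCore p G ≠ ⊥) : Fac p H := by
  set N := pCore p G with hN
  haveI hNn : N.Normal := Lib.Cores.pCore_normal p
  have hNp : IsPGroup p N := Lib.Cores.pCore_isPGroup p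
  have hNH : N ≤ normalizer (H : Set G) := h.pCore_le_normalizer
  set C : Subgroup G := centralizer (N : Set G) with hC
  haveI : C.Normal := inferInstanceAs (centralizer (N : Set G)).Normal
  -- `G = N_G(H) C`
  have hGC : normalizer (H : Set G) ⊔ C = ⊤ := by
    rw [eq_top_iff]
    intro g _
    obtain ⟨Q, hQ, hTQ, hHQ, hQN, k, hk, hkg⟩ := h.exists_core g
    have h1 := h.core_centralizes N hNp hNH g Q hQ hTQ hHQ k hk hkg
    have : g = k * (k⁻¹ * g) := by group
    rw [this]
    exact mul_mem (mem_sup_right (h1 hk)) (mem_sup_left hkg)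
  -- `L = H C` is normal
  have hLn : (H ⊔ C : Subgroup G).Normal := by
    rw [← normalizer_eq_top_iff, eq_top_iff, ← hGC]
    refine sup_le ?_ ?_
    · intro g hg
      refine mem_normalizer_fintype (S := ((H ⊔ C : Subgroup G) : Set G)) fun x hx => ?_
      obtain ⟨a, ha, c, hc, rfl⟩ := mem_sup_of_normal_right.1 hx
      have h1 : g * (a * c) * g⁻¹ = (g * a * g⁻¹) * (g * c * g⁻¹) := by group
      rw [h1]
      exact mul_mem (mem_sup_left (mem_pow_conj hg ha))
        (mem_sup_right (Normal.conj_mem inferInstance c hc g))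
    · exact le_trans le_sup_right le_normalizer
  by_cases hL : H ⊔ C = ⊤
  · -- quotient by `N`
    have hcard : Nat.card (G ⧸ N) < Nat.card G := by
      have h1 := N.card_eq_card_quotient_mul_card_subgroup
      have h2 : 1 < Nat.card N := by
        by_contra hle
        exact hne (N.eq_bot_of_card_le (not_lt.1 hle))
      have h3 : 0 < Nat.card (G ⧸ N) := Nat.card_pos
      rw [h1]
      nlinarith only [h2, h3]
    have h1 := ih (G ⧸ N) _ (h.map_mk N) hcard
    unfold Fac at h1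
    -- the `p'`-core of `G / N` is trivial
    have h2 : pPrimeCore p (G ⧸ N) = ⊥ := by
      set E : Subgroup G := (pPrimeCore p (G ⧸ N)).comap (QuotientGroup.mk' N) with hE
      haveI : E.Normal := Normal.comap (Lib.Cores.pPrimeCore_normal p) _
      haveI : (E ⊓ C).Normal := inferInstance
      have hNE : N ≤ E := by
        intro x hx
        rw [hE, mem_comap]
        have : QuotientGroup.mk' N x = 1 := by
          rw [QuotientGroup.mk'_apply, QuotientGroup.eq_one_iff]; exact hx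
        rw [this]; exact one_mem _
      -- `E ∩ C` has a central Sylow subgroup `N ∩ C`
      set E' : Subgroup G := E ⊓ C with hE'
      set Z : Subgroup E' := N.subgroupOf E' with hZ
      haveI : Z.Normal := inferInstance
      have hZi : Z.index.Coprime p := by
        set φ : E' →* G ⧸ N := (QuotientGroup.mk' N).comp E'.subtype with hφ
        have h3 : φ.ker = Z := by
          rw [hφ, ← MonoidHom.comap_ker, QuotientGroup.ker_mk']
          rfl
        have h4 : φ.range ≤ pPrimeCore p (G ⧸ N) := by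
          rintro _ ⟨x, rfl⟩
          exact (mem_inf.1 x.2).1
        rw [← h3, Subgroup.index_ker]
        exact Nat.Coprime.coprime_dvd_left (card_dvd_of_le h4) (Lib.Cores.pPrimeCore_coprime p)
      have hidx : (Nat.card Z).Coprime Z.index := by
        have hZp : IsPGroup p Z := hNp.comap_subtype
        obtain ⟨n, hn⟩ := hZp.exists_card_eq
        rw [hn]
        exact Nat.Coprime.pow_left n hZi.symm
      obtain ⟨K, hK⟩ := Subgroup.exists_right_complement'_of_coprime hidx
      have hKn : K.Normal := by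
        rw [← normalizer_eq_top_iff, eq_top_iff, ← hK.sup_eq_top]
        refine sup_le ?_ le_normalizer
        intro z hz
        refine mem_normalizer_fintype (S := (K : Set E')) fun x hx => ?_
        have h3 : (z : G) * x * (z : G)⁻¹ = x := by
          have h4 : (x : G) ∈ C := (mem_inf.1 x.2).2
          have h5 := mem_centralizer_iff.1 h4 z hz
          rw [h5]; group
        have h6 : z * x * z⁻¹ = x := Subtype.ext h3
        rw [h6]; exact hx
      have hKc : (Nat.card K).Coprime p := by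
        have h3 : Nat.card K = Z.index := hK.symm.index_eq_card.symm
        rw [h3]
        exact hZi
      have hK1 : K = ⊥ := by
        have h3 : K ≤ pPrimeCore p E' := Lib.Cores.le_pPrimeCore hKn hKc
        have h4 := Lib.Cores.map_subtype_pPrimeCore p (N := E') inferInstance
        rw [hcore, inf_bot_eq] at h4
        have h5 : pPrimeCore p E' = ⊥ := (Subgroup.map_eq_bot_iff_of_injective _ E'.subtype_injective).1 h4
        rw [h5] at h3
        exact le_bot_iff.1 h3
      have hE'N : E' ≤ N := by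
        have h3 := hK.sup_eq_top
        rw [hK1, sup_bot_eq] at h3
        exact subgroupOf_eq_top.1 h3
      -- elements of order prime to `p`
      rw [eq_bot_iff]
      intro y hy
      obtain ⟨x, rfl⟩ := QuotientGroup.mk'_surjective N y
      have hx0 : orderOf x ≠ 0 := (orderOf_pos x).ne'
      obtain ⟨a, m, hm, ham⟩ := Nat.exists_eq_pow_mul_and_not_dvd hx0 p (Fact.out : p.Prime).ne_one
      have hmp : m.Coprime p := ((Fact.out : p.Prime).coprime_iff_not_dvd.2 hm).symm
      have hord : orderOf (x ^ p ^ a) = m := by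
        rw [orderOf_pow_of_dvd (pow_ne_zero _ (Fact.out : p.Prime).ne_zero) ⟨m, ham⟩, ham,
          Nat.mul_div_cancel_left _ (pow_pos (Fact.out : p.Prime).pos _)]
      have hxC : x ^ p ^ a ∈ C :=
        Lib.NormalHall.mem_of_orderOf_coprime_index C _ (by
          rw [hord]; exact index_coprime_aux h.pg C hL hmp)
      have hxE : x ^ p ^ a ∈ E := pow_mem (show x ∈ E from hy) _
      have hxN : x ^ p ^ a ∈ N := hE'N (mem_inf.2 ⟨hxE, hxC⟩)
      have hx1 : x ^ p ^ a = 1 := by
        obtain ⟨k, hk⟩ := hNp ⟨_, hxN⟩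
        have h3 : (x ^ p ^ a) ^ p ^ k = 1 := congrArg Subtype.val hk
        have h4 : m ∣ p ^ k := hord ▸ orderOf_dvd_of_pow_eq_one h3
        have h5 : m = 1 := Nat.Coprime.eq_one_of_dvd (hmp.pow_right k) h4
        rw [← orderOf_eq_one_iff, hord, h5]
      have hy1 : (QuotientGroup.mk' N x) ^ p ^ a = 1 := by rw [← map_pow, hx1, map_one]
      have h3 : orderOf (QuotientGroup.mk' N x) ∣ p ^ a := orderOf_dvd_of_pow_eq_one hy1
      have h4 : orderOf (QuotientGroup.mk' N x) ∣ Nat.card (pPrimeCore p (G ⧸ N)) :=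
        Subgroup.orderOf_dvd_natCard _ hy
      have h5 : (orderOf (QuotientGroup.mk' N x)).Coprime (p ^ a) :=
        (Nat.Coprime.coprime_dvd_left h4 (Lib.Cores.pPrimeCore_coprime p)).pow_right a
      rw [mem_bot, ← orderOf_eq_one_iff]
      exact Nat.Coprime.eq_one_of_dvd h5 h3
    rw [h2, sup_bot_eq] at h1
    have h3 : normalizer ((H ⊔ N : Subgroup G) : Set G) = ⊤ := by
      rw [normalizer_eq_top_iff]
      have h4 := normalizer_eq_top_iff.1 h1
      have : (H.map (QuotientGroup.mk' N)).comap (QuotientGroup.mk' N) = H ⊔ N := by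
        rw [Subgroup.comap_map_eq, QuotientGroup.ker_mk']
      rw [← this]
      exact Normal.comap h4 _
    have h4 : IsPGroup p ↥(H ⊔ N : Subgroup G) := h.pg.to_sup_of_normal_right hNp
    have h5 := Cfsg.Agent.S3021.normalizer_le H h.cl _ h4 le_sup_left
    rw [h3] at h5
    exact fac_of_normal (normalizer_eq_top_iff.1 (top_le_iff.1 h5))
  · -- `L` is proper
    have h1 : pPrimeCore p ↥(H ⊔ C : Subgroup G) = ⊥ := by
      have h4 := Lib.Cores.map_subtype_pPrimeCore p hLn
      rw [hcore, inf_bot_eq] at h4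
      exact (Subgroup.map_eq_bot_iff_of_injective _ (subtype_injective _)).1 h4
    have h2 := h.le_normalizer_of_lt ih (H ⊔ C) le_sup_left hL h1
    refine fac_of_normal (normalizer_eq_top_iff.1 ?_)
    rw [eq_top_iff, ← hGC]
    exact sup_le le_rfl (le_trans le_sup_right h2)

end EC

end Cfsg.Agent.H266
end

-- part: H266/Simple
section
/-!
# Extremely closed abelian `p`-subgroups: reduction of the factorization to almost simple groups
-/

set_option autoImplicit false
set_option linter.style.haveILetI false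

namespace Cfsg.Agent.H266

open Subgroup Cfsg Lib.MinNormalNonabelian

universe u

namespace EC

variable {G : Type u} [Group G] {p : ℕ} {H : Subgroup G}

/-- A `p`-element of `⟨H, gHg⁻¹⟩` is conjugate in this group to an element of `H`. -/
theorem exists_conj_mem [Finite G] [Fact p.Prime] (h : EC p H) (g : G) (x : G)
    (hx : x ∈ H ⊔ H.map (MulAut.conj g).toMonoidHom) {k : ℕ} (hk : x ^ p ^ k = 1) :
    ∃ t ∈ H ⊔ H.map (MulAut.conj g).toMonoidHom, t * x * t⁻¹ ∈ H := by
  obtain ⟨Q, hQ, hTQ, hHQ, hQN, -⟩ := h.exists_core g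
  set T : Subgroup G := H ⊔ H.map (MulAut.conj g).toMonoidHom with hT
  have hHT : H ≤ T := le_sup_left
  have hQT : Q ≤ T := by rw [← hHQ]; exact le_sup_right
  have hN : (Q.subgroupOf T).Normal := normal_subgroupOf_of_le_normalizer hTQ
  have hQc : (Nat.card (Q.subgroupOf T)).Coprime p := by
    rw [Nat.card_congr (subgroupOfEquivOfLe hQT).toEquiv]; exact hQ
  have hHpT : IsPGroup p (H.subgroupOf T) := h.pg.of_equiv (subgroupOfEquivOfLe hHT).symm
  obtain ⟨P, hP⟩ := hHpT.exists_le_sylow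
  have hPH : (P : Subgroup T) = H.subgroupOf T := by
    refine le_antisymm ?_ hP
    intro y hy
    have hyT : y ∈ (H.subgroupOf T ⊔ Q.subgroupOf T : Subgroup T) := by
      rw [← subgroupOf_sup hHT hQT, hHQ, subgroupOf_self]; trivial
    obtain ⟨a, ha, q, hq, rfl⟩ := mem_sup_of_normal_right.1 hyT
    have hqP : q ∈ (P : Subgroup T) := by
      have := mul_mem (inv_mem (hP ha)) hy
      rwa [inv_mul_cancel_left] at this
    have : q ∈ ((P : Subgroup T) ⊓ Q.subgroupOf T : Subgroup T) := mem_inf.2 ⟨hqP, hq⟩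
    rw [inf_eq_bot P.isPGroup' hQc, mem_bot] at this
    rw [this, mul_one]; exact ha
  have hxp : IsPGroup p (zpowers (⟨x, hx⟩ : T)) := by
    rw [IsPGroup.iff_card]
    have h1 : orderOf (⟨x, hx⟩ : T) ∣ p ^ k := orderOf_dvd_of_pow_eq_one (Subtype.ext hk)
    obtain ⟨m, -, hm⟩ := (Nat.dvd_prime_pow (Fact.out : p.Prime)).1 h1
    exact ⟨m, by rw [Nat.card_zpowers, hm]⟩
  obtain ⟨P', hP'⟩ := hxp.exists_le_sylow
  obtain ⟨t, ht⟩ := MulAction.exists_smul_eq T P' P
  refine ⟨t, t.2, ?_⟩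
  have h1 : (⟨x, hx⟩ : T) ∈ (P' : Subgroup T) := hP' (mem_zpowers _)
  have h2 : t * (⟨x, hx⟩ : T) * t⁻¹ ∈ (P : Subgroup T) := by
    rw [← ht, Sylow.coe_subgroup_smul, Subgroup.mem_pointwise_smul_iff_inv_smul_mem]
    simpa only [MulAut.smul_def, MulAut.conj_apply, mul_assoc, _root_.smul_mul', _root_.MulAut.inv_apply, _root_.MulAut.conj_symm_apply, _root_.inv_mul_cancel, _root_.one_mul, _root_.smul_inv', _root_.mul_inv_cancel, _root_.mul_one, _root_.mul_inv_cancel_left] using h1
  rw [hPH, mem_subgroupOf] at h2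
  exact h2

/-- `H` centralises a minimal normal subgroup `A` with `H A ≠ G`. -/
theorem le_centralizer_of_ne_top [Finite G] [Fact p.Prime] (h : EC p H) (ih : IH p G)
    (hc' : pPrimeCore p G = ⊥) (hc : pCore p G = ⊥) (A : Subgroup G) [A.Normal]
    (hne : H ⊔ A ≠ ⊤) : H ≤ centralizer (A : Set G) := by
  set L : Subgroup G := H ⊔ A with hL
  have hAL : A ≤ L := le_sup_right
  have hHL : H ≤ L := le_sup_left
  haveI : (A.subgroupOf L).Normal := inferInstance
  have hsup : (H.subgroupOf L ⊔ A.subgroupOf L : Subgroup L) = ⊤ := by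
    rw [← subgroupOf_sup hHL hAL, ← hL, subgroupOf_self]
  have hcore : pPrimeCore p L = ⊥ := by
    set O : Subgroup G := (pPrimeCore p L).map L.subtype with hO
    have hOA : O ≤ A := by
      rintro _ ⟨x, hx, rfl⟩
      have h1 : (orderOf x).Coprime p :=
        Nat.Coprime.coprime_dvd_left (Subgroup.orderOf_dvd_natCard _ hx)
          (Lib.Cores.pPrimeCore_coprime p)
      have h2 := Lib.NormalHall.mem_of_orderOf_coprime_index (A.subgroupOf L) x
        (index_coprime_aux (h.pg.of_equiv (subgroupOfEquivOfLe hHL).symm) _ hsup h1)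
      exact h2
    have h1 : O ≤ (pPrimeCore p A).map A.subtype :=
      Lib.LocalCore.le_map_pPrimeCore hOA (Lib.LocalCore.card_map_pPrimeCore_coprime p L)
        (le_trans hAL (Lib.LocalCore.le_normalizer_map_pPrimeCore p L))
    rw [Lib.Cores.map_subtype_pPrimeCore p inferInstance, hc', inf_bot_eq, le_bot_iff] at h1
    exact (Subgroup.map_eq_bot_iff_of_injective _ L.subtype_injective).1 h1
  have hLN := h.le_normalizer_of_lt ih L hHL hne hcore
  have hinf : H ⊓ A = ⊥ := by
    have h1 : A ≤ normalizer ((H ⊓ A : Subgroup G) : Set G) := by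
      intro a ha
      refine mem_normalizer_fintype (S := ((H ⊓ A : Subgroup G) : Set G)) fun x hx => ?_
      exact mem_inf.2 ⟨mem_pow_conj (hLN (hAL ha)) (mem_inf.1 hx).1,
        mul_mem (mul_mem ha (mem_inf.1 hx).2) (inv_mem ha)⟩
    have h2 : (H ⊓ A : Subgroup G) ≤ (pCore p A).map A.subtype :=
      Lib.LocalCore.le_map_pCore inf_le_right (h.pg.to_le inf_le_left) h1
    rw [Lib.Cores.map_subtype_pCore p inferInstance, hc, inf_bot_eq, le_bot_iff] at h2
    exact h2
  intro x hx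
  refine mem_centralizer_iff.2 fun a ha => ?_
  have h1 : a * x * a⁻¹ * x⁻¹ ∈ H ⊓ A := by
    refine mem_inf.2 ⟨mul_mem (mem_pow_conj (hLN (hAL ha)) hx) (inv_mem hx), ?_⟩
    have h2 : a * x * a⁻¹ * x⁻¹ = a * (x * a⁻¹ * x⁻¹) := by group
    rw [h2]
    exact mul_mem ha (Normal.conj_mem inferInstance _ (inv_mem ha) x)
  rw [hinf, mem_bot] at h1
  have h2 : a * x * a⁻¹ = x := mul_inv_eq_one.1 h1
  calc a * x = (a * x * a⁻¹) * a := by group
    _ = x * a := by rw [h2]

/-- The existence of the component. -/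
theorem exists_minimal [Finite G] [Fact p.Prime] (h : EC p H) (ih : IH p G)
    (hc' : pPrimeCore p G = ⊥) (hc : pCore p G = ⊥) (hne : H ≠ ⊥) :
    ∃ A : Subgroup G, A.Normal ∧ A ≠ ⊥ ∧ (∀ M : Subgroup G, M.Normal → M ≤ A → M = ⊥ ∨ M = A) ∧
      (¬ ∀ x ∈ A, ∀ y ∈ A, Commute x y) ∧ H ⊔ A = ⊤ := by
  by_contra hcon
  push Not at hcon
  have hmin' : ∀ A : Subgroup G, A.Normal → A ≠ ⊥ →
      (∀ M : Subgroup G, M.Normal → M ≤ A → M = ⊥ ∨ M = A) → ¬ ∀ x ∈ A, ∀ y ∈ A, Commute x y := by
    intro A hA hA1 hmin hab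
    haveI := hA
    obtain ⟨q, hq, hqA, -⟩ := Lib.MinNormalNonabelian.abelian_structure A hA1 hmin hab
    by_cases hqp : q = p
    · subst hqp
      exact hA1 (le_bot_iff.1 (hc ▸ Lib.Cores.le_pCore hA hqA))
    · haveI : Fact q.Prime := ⟨hq⟩
      obtain ⟨n, hn⟩ := hqA.exists_card_eq
      have : (Nat.card A).Coprime p := by
        rw [hn]
        exact Nat.Coprime.pow_left n ((Nat.coprime_primes hq Fact.out).2 hqp)
      exact hA1 (le_bot_iff.1 (hc' ▸ Lib.Cores.le_pPrimeCore hA this))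
  -- all minimal normal subgroups are centralised
  have hall : ∀ A : Subgroup G, A.Normal → A ≠ ⊥ →
      (∀ M : Subgroup G, M.Normal → M ≤ A → M = ⊥ ∨ M = A) → H ≤ centralizer (A : Set G) := by
    intro A hA hA1 hmin
    haveI := hA
    have h1 := hcon A hA hA1 hmin
    exact h.le_centralizer_of_ne_top ih hc' hc A (fun htop =>
      hmin' A hA hA1 hmin (by
        by_contra hno
        push Not at hno
        exact h1 hno htop))
  let S : Set (Subgroup G) := {A | A.Normal ∧ A ≠ ⊥ ∧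
    (∀ M : Subgroup G, M.Normal → M ≤ A → M = ⊥ ∨ M = A)}
  have hSn : (sSup S).Normal := Lib.Cores.sSup_normal S fun A hA => hA.1
  haveI := hSn
  have hHC : H ≤ centralizer ((sSup S : Subgroup G) : Set G) := by
    rw [le_centralizer_iff]
    refine sSup_le fun A hA => ?_
    rw [le_centralizer_iff]
    exact hall A hA.1 hA.2.1 hA.2.2
  have hCn : (centralizer ((sSup S : Subgroup G) : Set G)).Normal := inferInstance
  have hCne : centralizer ((sSup S : Subgroup G) : Set G) ≠ ⊥ := fun hb =>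
    hne (le_bot_iff.1 (hb ▸ hHC))
  obtain ⟨M, hM, hMC, hM1, hMmin⟩ := SolvableStructure.KegelNormal.exists_minimal_normal_le _ hCn hCne
  have hMmin' : ∀ K : Subgroup G, K.Normal → K ≤ M → K = ⊥ ∨ K = M := by
    intro K hK hKM
    by_cases hK1 : K = ⊥
    · exact Or.inl hK1
    · exact Or.inr (hMmin K hK hKM hK1)
  refine hmin' M hM hM1 hMmin' fun x hx y hy => ?_
  have hyS : y ∈ sSup S := (le_sSup (show M ∈ S from ⟨hM, hM1, hMmin'⟩)) hy
  exact (mem_centralizer_iff.1 (hMC hx) y hyS).symm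

/-- The centraliser of the component is trivial. -/
theorem centralizer_eq_bot [Finite G] [Fact p.Prime] (h : EC p H)
    (hc : pCore p G = ⊥) (A : Subgroup G) [A.Normal]
    (hmin : ∀ M : Subgroup G, M.Normal → M ≤ A → M = ⊥ ∨ M = A)
    (hna : ¬ ∀ x ∈ A, ∀ y ∈ A, Commute x y) (htop : H ⊔ A = ⊤) :
    centralizer (A : Set G) = ⊥ := by
  set C : Subgroup G := centralizer (A : Set G) with hC
  haveI : C.Normal := inferInstanceAs (centralizer (A : Set G)).Normal
  have hCA : C ⊓ A = ⊥ := by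
    rcases hmin (C ⊓ A) inferInstance inf_le_right with h1 | h1
    · exact h1
    · exfalso
      refine hna fun x hx y hy => ?_
      have h2 : y ∈ C ⊓ A := by rw [h1]; exact hy
      exact mem_centralizer_iff.1 (mem_inf.1 h2).1 x hx
  have hCp : IsPGroup p C := by
    intro ⟨x, hx⟩
    have hx0 : orderOf x ≠ 0 := (orderOf_pos x).ne'
    obtain ⟨a, m, hm, ham⟩ := Nat.exists_eq_pow_mul_and_not_dvd hx0 p (Fact.out : p.Prime).ne_one
    have hmp : m.Coprime p := ((Fact.out : p.Prime).coprime_iff_not_dvd.2 hm).symm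
    have hord : orderOf (x ^ p ^ a) = m := by
      rw [orderOf_pow_of_dvd (pow_ne_zero _ (Fact.out : p.Prime).ne_zero) ⟨m, ham⟩, ham,
        Nat.mul_div_cancel_left _ (pow_pos (Fact.out : p.Prime).pos _)]
    have hxA : x ^ p ^ a ∈ A :=
      Lib.NormalHall.mem_of_orderOf_coprime_index A _ (by
        rw [hord]; exact index_coprime_aux h.pg A htop hmp)
    have h1 : x ^ p ^ a ∈ C ⊓ A := mem_inf.2 ⟨pow_mem hx _, hxA⟩
    rw [hCA, mem_bot] at h1
    exact ⟨a, Subtype.ext h1⟩
  exact le_bot_iff.1 (hc ▸ Lib.Cores.le_pCore inferInstance hCp)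

/-- Conjugation by an element of `A` fixes the members of `minSet A`. -/
theorem map_conj_eq_of_mem {A S : Subgroup G} (hS : S ∈ minSet A) {a : G} (ha : a ∈ A) :
    S.map (MulAut.conj a).toMonoidHom = S := by
  have h1 : A ≤ normalizer (S : Set G) := hS.2.2.1
  ext x
  constructor
  · rintro ⟨y, hy, rfl⟩
    exact mem_pow_conj (h1 ha) hy
  · intro hx
    refine ⟨a⁻¹ * x * a, ?_, ?_⟩
    · have := mem_pow_conj (inv_mem (h1 ha)) hx
      simpa using this
    · simp only [mul_assoc, _root_.MulEquiv.toMonoidHom_eq_coe, _root_.mul_assoc, _root_.MonoidHom.coe_coe, _root_.MulAut.conj_apply, _root_.mul_inv_cancel_left, _root_.mul_inv_cancel, _root_.mul_one]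

theorem map_conj_mul (S : Subgroup G) (a b : G) :
    S.map (MulAut.conj (a * b)).toMonoidHom =
      (S.map (MulAut.conj b).toMonoidHom).map (MulAut.conj a).toMonoidHom := by
  rw [Subgroup.map_map]
  congr 1
  ext x
  simp [mul_assoc]

/-- If `H` is abelian and transitive on `minSet A`, elements of `H` centralising a factor are trivial. -/
theorem eq_one_of_centralizes (h : EC p H) (A : Subgroup G) [A.Normal]
    (hcA : centralizer (A : Set G) = ⊥) (htop : H ⊔ A = ⊤) (hsup : sSup (minSet A) = A)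
    (htr : ∀ S ∈ minSet A, ∀ T ∈ minSet A, ∃ g : G, T = S.map (MulAut.conj g).toMonoidHom)
    {B : Subgroup G} (hB : B ∈ minSet A) {x : G} (hx : x ∈ H) (hxB : ∀ b ∈ B, x * b = b * x) :
    x = 1 := by
  have h1 : A ≤ centralizer ({x} : Set G) := by
    rw [← hsup]
    refine sSup_le fun T hT => ?_
    obtain ⟨g, hg⟩ := htr B hB T hT
    have hg' : g ∈ (H ⊔ A : Subgroup G) := by rw [htop]; trivial
    obtain ⟨k, hk, a, ha, rfl⟩ := mem_sup_of_normal_right.1 hg'
    rw [map_conj_mul, map_conj_eq_of_mem hB ha] at hg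
    rw [hg]
    rintro _ ⟨b, hb, rfl⟩
    rw [mem_centralizer_singleton_iff]
    simp only [MulEquiv.toMonoidHom_eq_coe, MonoidHom.coe_coe, MulAut.conj_apply]
    have h2 := hxB b hb
    have h3 := h.ab x hx k hk
    have h4 : x * k⁻¹ = k⁻¹ * x := by
      calc x * k⁻¹ = k⁻¹ * (k * x) * k⁻¹ := by group
        _ = k⁻¹ * (x * k) * k⁻¹ := by rw [h3]
        _ = k⁻¹ * x := by group
    calc k * b * k⁻¹ * x = k * b * (k⁻¹ * x) := by group
      _ = k * b * (x * k⁻¹) := by rw [h4]
      _ = k * (b * x) * k⁻¹ := by group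
      _ = k * (x * b) * k⁻¹ := by rw [h2]
      _ = (k * x) * b * k⁻¹ := by group
      _ = (x * k) * b * k⁻¹ := by rw [h3]
      _ = x * (k * b * k⁻¹) := by group
  have h2 : x ∈ centralizer (A : Set G) := by
    refine mem_centralizer_iff.2 fun a ha => ?_
    have := mem_centralizer_singleton_iff.1 (h1 ha)
    exact this
  rwa [hcA, mem_bot] at h2

/-- `p`-elements of `⟨H, gHg⁻¹⟩` centralising a factor are trivial. -/
theorem eq_one_of_centralizes' [Finite G] [Fact p.Prime] (h : EC p H) (A : Subgroup G) [A.Normal]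
    (hcA : centralizer (A : Set G) = ⊥) (htop : H ⊔ A = ⊤) (hsup : sSup (minSet A) = A)
    (htr : ∀ S ∈ minSet A, ∀ T ∈ minSet A, ∃ g : G, T = S.map (MulAut.conj g).toMonoidHom)
    {B : Subgroup G} (hB : B ∈ minSet A) (g : G) {x : G}
    (hx : x ∈ H ⊔ H.map (MulAut.conj g).toMonoidHom) {k : ℕ} (hk : x ^ p ^ k = 1)
    (hxB : ∀ b ∈ B, x * b = b * x) : x = 1 := by
  obtain ⟨t, -, ht⟩ := h.exists_conj_mem g x hx hk
  have h1 : t * x * t⁻¹ = 1 := by
    refine h.eq_one_of_centralizes A hcA htop hsup htr (map_conj_mem_minSet hB t) ht ?_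
    rintro _ ⟨b, hb, rfl⟩
    simp only [MulEquiv.toMonoidHom_eq_coe, MonoidHom.coe_coe, MulAut.conj_apply]
    calc t * x * t⁻¹ * (t * b * t⁻¹) = t * (x * b) * t⁻¹ := by group
      _ = t * (b * x) * t⁻¹ := by rw [hxB b hb]
      _ = t * b * t⁻¹ * (t * x * t⁻¹) := by group
  have h2 : x = t⁻¹ * (t * x * t⁻¹) * t := by group
  rw [h2, h1]; group

/-- The component is simple. -/
theorem mem_minSet_self [Finite G] [Fact p.Prime] (h : EC p H)
    (hc' : pPrimeCore p G = ⊥) (hc : pCore p G = ⊥) (A : Subgroup G) [A.Normal]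
    (hmin : ∀ M : Subgroup G, M.Normal → M ≤ A → M = ⊥ ∨ M = A)
    (hna : ¬ ∀ x ∈ A, ∀ y ∈ A, Commute x y) (htop : H ⊔ A = ⊤) :
    A ∈ minSet A := by
  by_contra hAm
  have hcA := h.centralizer_eq_bot hc A hmin hna htop
  obtain ⟨⟨A₁, hA₁⟩, hind, hsup, hsimp, hcent, htr⟩ := nonabelian_structure A hmin hna
  have hK : ∀ S ∈ minSet A, A ≤ normalizer (S : Set G) := fun S hS => hS.2.2.1
  have hle : ∀ S ∈ minSet A, S ≤ A := fun S hS => hS.1
  -- `H` does not normalise `A₁`
  obtain ⟨k, hkH, hk⟩ : ∃ k ∈ H, A₁.map (MulAut.conj k).toMonoidHom ≠ A₁ := by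
    by_contra hcon
    push Not at hcon
    have hn : A₁.Normal := by
      rw [← normalizer_eq_top_iff, eq_top_iff, ← htop]
      refine sup_le ?_ (hK A₁ hA₁)
      intro x hx
      refine mem_normalizer_fintype (S := (A₁ : Set G)) fun y hy => ?_
      have : x * y * x⁻¹ ∈ A₁.map (MulAut.conj x).toMonoidHom := ⟨y, hy, by simp⟩
      rwa [hcon x hx] at this
    rcases hmin A₁ hn (hle A₁ hA₁) with h1 | h1
    · exact hA₁.2.1 h1
    · exact hAm (h1 ▸ hA₁)
  set A₂ : Subgroup G := A₁.map (MulAut.conj k).toMonoidHom with hA₂d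
  have hA₂ : A₂ ∈ minSet A := map_conj_mem_minSet hA₁ k
  have hcomm : ∀ S ∈ minSet A, ∀ T ∈ minSet A, S ≠ T → ∀ x ∈ S, ∀ y ∈ T, x * y = y * x :=
    fun S hS T hT hne x hx y hy =>
      (Lib.MinNormal.commute_of_mem hind hK hle hS hT hne hx hy).eq
  have hdisj : ∀ S ∈ minSet A, ∀ T ∈ minSet A, S ≠ T → ∀ x ∈ S, x ∈ T → x = 1 := by
    intro S hS T hT hne x hx hxT
    have h1 : Disjoint S T := hind.pairwiseDisjoint hS hT hne
    exact Subgroup.disjoint_def.1 h1 hx hxT
  -- the `p`-elements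
  have hkey : ∀ a ∈ A₁, ∀ n : ℕ, a ^ p ^ n = 1 →
      ∃ u, u = a * (k * a⁻¹ * k⁻¹) ∧ u ∈ H ⊔ H.map (MulAut.conj a).toMonoidHom ∧
        u ^ p ^ n = 1 ∧ u ∈ A := by
    intro a ha n hn
    have hka : k * a⁻¹ * k⁻¹ ∈ A₂ := ⟨a⁻¹, inv_mem ha, by simp only [_root_.MulEquiv.toMonoidHom_eq_coe, _root_.MonoidHom.coe_coe, _root_.MulAut.conj_apply]⟩
    refine ⟨_, rfl, ?_, ?_, ?_⟩
    · have h1 : a * (k * a⁻¹ * k⁻¹) = (a * k * a⁻¹) * k⁻¹ := by group
      rw [h1]
      exact mul_mem (mem_sup_right ⟨k, hkH, by simp⟩) (mem_sup_left (inv_mem hkH))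
    · have h1 : Commute a (k * a⁻¹ * k⁻¹) := hcomm A₁ hA₁ A₂ hA₂ (Ne.symm hk) a ha _ hka
      rw [h1.mul_pow, hn, one_mul]
      have h2 : k * a⁻¹ * k⁻¹ = MulAut.conj k a⁻¹ := by simp
      rw [h2, ← map_pow, inv_pow, hn, inv_one, map_one]
    · exact mul_mem (hle _ hA₁ ha) (hle _ hA₂ hka)
  -- if the `u` are trivial then `A₁` is a `p'`-group
  have hfin : (∀ a ∈ A₁, ∀ n : ℕ, a ^ p ^ n = 1 → a * (k * a⁻¹ * k⁻¹) = 1) → False := by
    intro hall
    have h1 : ∀ a ∈ A₁, ∀ n : ℕ, a ^ p ^ n = 1 → a = 1 := by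
      intro a ha n hn
      have h2 := hall a ha n hn
      have h3 : a = k * a * k⁻¹ := by
        calc a = (a * (k * a⁻¹ * k⁻¹)) * (k * a * k⁻¹) := by group
          _ = k * a * k⁻¹ := by rw [h2, one_mul]
      refine hdisj A₁ hA₁ A₂ hA₂ (Ne.symm hk) a ha ?_
      rw [h3]
      exact ⟨a, ha, by simp⟩
    have hcop : (Nat.card A₁).Coprime p := by
      refine Nat.Coprime.symm (((Fact.out : p.Prime).coprime_iff_not_dvd).2 fun hd => ?_)
      obtain ⟨x, hx⟩ := exists_prime_orderOf_dvd_card' p hd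
      have h2 : (x : G) ^ p ^ 1 = 1 := by
        rw [pow_one, ← Subgroup.coe_pow, ← hx, pow_orderOf_eq_one, Subgroup.coe_one]
      have h3 : (x : G) = 1 := h1 x x.2 1 h2
      have h4 : x = 1 := Subtype.ext h3
      rw [h4, orderOf_one] at hx
      exact (Fact.out : p.Prime).one_lt.ne hx
    have h2 : A₁ ≤ (pPrimeCore p A).map A.subtype :=
      Lib.LocalCore.le_map_pPrimeCore (hle _ hA₁) hcop (hK _ hA₁)
    rw [Lib.Cores.map_subtype_pPrimeCore p inferInstance, hc', inf_bot_eq, le_bot_iff] at h2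
    exact hA₁.2.1 h2
  by_cases hthird : ∃ B ∈ minSet A, B ≠ A₁ ∧ B ≠ A₂
  · obtain ⟨B, hB, hB1, hB2⟩ := hthird
    refine hfin fun a ha n hn => ?_
    obtain ⟨u, hu, huT, hun, huA⟩ := hkey a ha n hn
    rw [← hu]
    refine h.eq_one_of_centralizes' A hcA htop hsup htr hB a huT hun ?_
    intro b hb
    have h1 : a * b = b * a := hcomm A₁ hA₁ B hB (Ne.symm hB1) a ha b hb
    have h2 : (k * a⁻¹ * k⁻¹) * b = b * (k * a⁻¹ * k⁻¹) :=
      hcomm A₂ hA₂ B hB (Ne.symm hB2) _ ⟨a⁻¹, inv_mem ha, by simp only [_root_.MulEquiv.toMonoidHom_eq_coe, _root_.MonoidHom.coe_coe, _root_.MulAut.conj_apply]⟩ b hb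
    rw [hu, mul_assoc, h2, ← mul_assoc, h1, mul_assoc]
  · push Not at hthird
    have hp2 : p = 2 := by
      by_contra hp2
      have hA₃ : A₂.map (MulAut.conj k).toMonoidHom ∈ minSet A := map_conj_mem_minSet hA₂ k
      have h1 : A₂.map (MulAut.conj k).toMonoidHom = A₁ := by
        by_contra hne
        have h2 := hthird _ hA₃ hne
        exact hk (Subgroup.map_injective (MulAut.conj k).injective h2)
      have hkk : k * k ∈ normalizer (A₁ : Set G) := by
        refine mem_normalizer_fintype (S := (A₁ : Set G)) fun x hx => ?_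
        have h2 : k * k * x * (k * k)⁻¹ ∈ A₂.map (MulAut.conj k).toMonoidHom := by
          refine ⟨k * x * k⁻¹, ⟨x, hx, by simp⟩, ?_⟩
          simp only [MulEquiv.toMonoidHom_eq_coe, MonoidHom.coe_coe, MulAut.conj_apply]
          group
        rwa [h1] at h2
      have hodd : Odd (orderOf k) := by
        obtain ⟨m, hm⟩ := h.pg ⟨k, hkH⟩
        have h2 : k ^ p ^ m = 1 := congrArg Subtype.val hm
        obtain ⟨j, -, hj⟩ := (Nat.dvd_prime_pow (Fact.out : p.Prime)).1 (orderOf_dvd_of_pow_eq_one h2)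
        rw [hj]
        exact ((Fact.out : p.Prime).odd_of_ne_two hp2).pow
      obtain ⟨j, hj⟩ := hodd
      have hkN : k ∈ normalizer (A₁ : Set G) := by
        have h2 : k = (k * k) ^ (j + 1) := by
          rw [← pow_two, ← pow_mul]
          have h3 : 2 * (j + 1) = orderOf k + 1 := by omega
          rw [h3, pow_add, pow_orderOf_eq_one, one_mul, pow_one]
        rw [h2]
        exact pow_mem hkk _
      refine hk ?_
      ext x
      constructor
      · rintro ⟨y, hy, rfl⟩
        exact mem_pow_conj hkN hy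
      · intro hx
        refine ⟨k⁻¹ * x * k, ?_, ?_⟩
        · have := mem_pow_conj (inv_mem hkN) hx
          simpa using this
        · simp only [mul_assoc, _root_.MulEquiv.toMonoidHom_eq_coe, _root_.mul_assoc, _root_.MonoidHom.coe_coe, _root_.MulAut.conj_apply, _root_.mul_inv_cancel_left, _root_.mul_inv_cancel, _root_.mul_one]
    subst hp2
    by_cases hHA : H ⊓ A = ⊥
    · refine hfin fun a ha n hn => ?_
      obtain ⟨u, hu, huT, hun, huA⟩ := hkey a ha n hn
      rw [← hu]
      obtain ⟨t, -, ht⟩ := h.exists_conj_mem a u huT hun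
      have h1 : t * u * t⁻¹ ∈ H ⊓ A := mem_inf.2 ⟨ht, Normal.conj_mem inferInstance u huA t⟩
      rw [hHA, mem_bot] at h1
      have h2 : u = t⁻¹ * (t * u * t⁻¹) * t := by group
      rw [h2, h1]; group
    · -- an involution of `H ∩ A`
      have hpHA : IsPGroup 2 ↥(H ⊓ A : Subgroup G) := h.pg.to_le inf_le_left
      have hdvd : 2 ∣ Nat.card ↥(H ⊓ A : Subgroup G) := by
        obtain ⟨n, hn⟩ := hpHA.exists_card_eq
        rw [hn]
        refine dvd_pow_self 2 ?_
        rintro rfl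
        rw [pow_zero] at hn
        exact hHA (Subgroup.card_eq_one.1 hn)
      obtain ⟨⟨z, hz⟩, hzo⟩ := exists_prime_orderOf_dvd_card' 2 hdvd
      rw [← Subgroup.orderOf_coe] at hzo
      change orderOf z = 2 at hzo
      obtain ⟨hzH, hzA⟩ := mem_inf.1 hz
      have hz1 : z ≠ 1 := by
        rintro rfl
        rw [orderOf_one] at hzo
        omega
      have hzz : z * z = 1 := by rw [← pow_two, ← hzo, pow_orderOf_eq_one]
      have hA12 : A ≤ A₁ ⊔ A₂ := by
        conv_lhs => rw [← hsup]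
        refine sSup_le fun T hT => ?_
        by_cases hT1 : T = A₁
        · rw [hT1]; exact le_sup_left
        · rw [hthird T hT hT1]; exact le_sup_right
      obtain ⟨z₁, hz₁, z₂, hz₂, hz12⟩ := mem_sup_norm ((hle _ hA₁).trans (hK _ hA₂)) (hA12 hzA)
      have hc12 : ∀ x ∈ A₁, ∀ y ∈ A₂, x * y = y * x := hcomm A₁ hA₁ A₂ hA₂ (Ne.symm hk)
      have hz₁z₁ : z₁ * z₁ = 1 := by
        refine hdisj A₁ hA₁ A₂ hA₂ (Ne.symm hk) _ (mul_mem hz₁ hz₁) ?_
        have h1 : (z₁ * z₁) * (z₂ * z₂) = 1 := by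
          rw [← hzz, ← hz12]
          calc z₁ * z₁ * (z₂ * z₂) = z₁ * (z₁ * z₂) * z₂ := by group
            _ = z₁ * (z₂ * z₁) * z₂ := by rw [hc12 z₁ hz₁ z₂ hz₂]
            _ = z₁ * z₂ * (z₁ * z₂) := by group
        rw [mul_eq_one_iff_eq_inv.1 h1]
        exact inv_mem (mul_mem hz₂ hz₂)
      have hz₁1 : z₁ ≠ 1 := by
        intro h1
        refine hz1 (h.eq_one_of_centralizes A hcA htop hsup htr hA₁ hzH fun b hb => ?_)
        rw [← hz12, h1, one_mul]
        exact (hc12 b hb z₂ hz₂).symm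
      have hodd : ∀ b ∈ A₁, Odd (orderOf (z₁ * b * z₁⁻¹ * b⁻¹)) := by
        intro b hb
        by_contra hno
        rw [Nat.not_odd_iff_even] at hno
        have hw : z * b * z⁻¹ * b⁻¹ = z₁ * b * z₁⁻¹ * b⁻¹ := by
          rw [← hz12]
          have h1 := hc12 b hb z₂ hz₂
          calc z₁ * z₂ * b * (z₁ * z₂)⁻¹ * b⁻¹ = z₁ * (z₂ * b) * z₂⁻¹ * z₁⁻¹ * b⁻¹ := by group
            _ = z₁ * (b * z₂) * z₂⁻¹ * z₁⁻¹ * b⁻¹ := by rw [h1]
            _ = z₁ * b * z₁⁻¹ * b⁻¹ := by group
        set w := z₁ * b * z₁⁻¹ * b⁻¹ with hwd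
        have hwA : w ∈ A₁ := mul_mem (mul_mem (mul_mem hz₁ hb) (inv_mem hz₁)) (inv_mem hb)
        have hwT : w ∈ H ⊔ H.map (MulAut.conj b).toMonoidHom := by
          rw [← hw]
          have h1 : z * b * z⁻¹ * b⁻¹ = z * (b * z⁻¹ * b⁻¹) := by group
          rw [h1]
          exact mul_mem (mem_sup_left hzH) (mem_sup_right ⟨z⁻¹, inv_mem hzH, by simp only [_root_.MulEquiv.toMonoidHom_eq_coe, _root_.MonoidHom.coe_coe, _root_.MulAut.conj_apply]⟩)
        have hw0 : orderOf w ≠ 0 := (orderOf_pos w).ne'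
        have h2 : orderOf (w ^ (orderOf w / 2)) = 2 := orderOf_pow_orderOf_div hw0 hno.two_dvd
        have h3 : w ^ (orderOf w / 2) = 1 := by
          refine h.eq_one_of_centralizes' (k := 1) A hcA htop hsup htr hA₂ b (pow_mem hwT _) ?_ ?_
          · have h4 := pow_orderOf_eq_one (w ^ (orderOf w / 2))
            rw [h2] at h4
            rw [pow_one]; exact h4
          · intro y hy
            exact hc12 _ (pow_mem hwA _) y hy
        rw [h3, orderOf_one] at h2
        omega
      -- `Z*`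
      have hzo1 : orderOf (⟨z₁, hz₁⟩ : A₁) = 2 := by
        refine orderOf_eq_prime ?_ ?_
        · rw [pow_two]; exact Subtype.ext hz₁z₁
        · intro h1; exact hz₁1 (congrArg Subtype.val h1)
      have hzp : IsPGroup 2 (zpowers (⟨z₁, hz₁⟩ : A₁)) := by
        rw [IsPGroup.iff_card]
        exact ⟨1, by rw [Nat.card_zpowers, hzo1, pow_one]⟩
      obtain ⟨P, hP⟩ := hzp.exists_le_sylow
      have hzP : (⟨z₁, hz₁⟩ : A₁) ∈ P := hP (mem_zpowers _)
      have hiso := (S0216.result P (⟨z₁, hz₁⟩ : A₁) hzo1 hzP).2 (fun g => by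
        have h1 := hodd g g.2
        rw [← Subgroup.orderOf_coe]
        exact h1)
      obtain ⟨N, hN, hNodd, hNc⟩ := S0215.result P (⟨z₁, hz₁⟩ : A₁) hzo1 hzP hiso
      haveI := hsimp A₁ hA₁
      rcases hN.eq_bot_or_eq_top with hN1 | hN1
      · refine hz₁1 (hcent A₁ hA₁ z₁ hz₁ fun t ht => ?_)
        have h1 := hNc ⟨t, ht⟩
        rw [hN1, mem_bot] at h1
        have h2 : z₁ * t * z₁⁻¹ * t⁻¹ = 1 := congrArg Subtype.val h1
        have h3 : z₁ * t * z₁⁻¹ = t := mul_inv_eq_one.1 h2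
        change z₁ * t = t * z₁
        calc z₁ * t = (z₁ * t * z₁⁻¹) * z₁ := by group
          _ = t * z₁ := by rw [h3]
      · rw [hN1, Subgroup.card_top] at hNodd
        have h1 : orderOf (⟨z₁, hz₁⟩ : A₁) ∣ Nat.card A₁ := orderOf_dvd_natCard _
        rw [hzo1] at h1
        exact (Nat.not_even_iff_odd.2 hNodd) (even_iff_two_dvd.2 h1)

/-- A counterexample to the factorization of minimal order. -/
theorem step [Finite G] [Fact p.Prime] (h : EC p H) (ih : IH p G) (hF : ¬ Fac p H) :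
    pPrimeCore p G = ⊥ ∧ pCore p G = ⊥ ∧ ∃ A : Subgroup G, A.Normal ∧ IsSimpleGroup A ∧
      (¬ ∀ x ∈ A, ∀ y ∈ A, Commute x y) ∧ centralizer (A : Set G) = ⊥ ∧ H ⊔ A = ⊤ := by
  have hc' : pPrimeCore p G = ⊥ := by
    by_contra hne
    exact hF (h.fac_of_pPrimeCore_ne_bot ih hne)
  have hc : pCore p G = ⊥ := by
    by_contra hne
    exact hF (h.fac_of_pCore_ne_bot ih hc' hne)
  have hne : H ≠ ⊥ := by
    rintro rfl
    exact hF (fac_of_normal inferInstance)
  obtain ⟨A, hA, hA1, hmin, hna, htop⟩ := h.exists_minimal ih hc' hc hne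
  haveI := hA
  have hAm := h.mem_minSet_self hc' hc A hmin hna htop
  exact ⟨hc', hc, A, hA, (nonabelian_structure A hmin hna).2.2.2.1 A hAm, hna,
    h.centralizer_eq_bot hc A hmin hna htop, htop⟩

end EC

end Cfsg.Agent.H266
end
end

-- part: H266/TwoSide
section
prune_inst 0x800000000000000080000000000001c010000
set_option linter.all false
open scoped Cfsg.Agent.FastGrp

/-!
# Extremely closed abelian 2-subgroups: the factorization
-/

set_option autoImplicit false
set_option linter.style.haveILetI false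

namespace Cfsg.Agent.H266

open Subgroup Cfsg Cfsg.Agent.ThreePrime.AbelianBasic

universe u

theorem exists_unique_of_card_two {G : Type*} [Group G] {E : Subgroup G} (h : Nat.card E = 2) :
    ∃ z ∈ E, z ≠ 1 ∧ ∀ w ∈ E, w ≠ 1 → w = z := by
  obtain ⟨x, y, hxy, hall⟩ := Nat.card_eq_two_iff.1 h
  have h1 : ∀ w : E, w = x ∨ w = y := fun w => by
    have : w ∈ ({x, y} : Set E) := by rw [hall]; trivial
    simpa using this
  rcases h1 1 with h2 | h2
  · refine ⟨y, y.2, fun h3 => hxy (by rw [← h2]; exact Subtype.ext h3.symm), fun w hw hw1 => ?_⟩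
    rcases h1 ⟨w, hw⟩ with h4 | h4
    · exact absurd (congrArg Subtype.val (h4.trans h2.symm)) hw1
    · exact congrArg Subtype.val h4
  · refine ⟨x, x.2, fun h3 => hxy (by rw [← h2]; exact Subtype.ext h3), fun w hw hw1 => ?_⟩
    rcases h1 ⟨w, hw⟩ with h4 | h4
    · exact congrArg Subtype.val h4
    · exact absurd (congrArg Subtype.val (h4.trans h2.symm)) hw1

namespace EC

variable {G : Type u} [Group G] {p : ℕ} {H : Subgroup G}

/-- Fusion of elements of `H` is controlled by `N(H)`. -/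
theorem fus [Finite G] [Fact p.Prime] (h : EC p H) {x g : G} (hx : x ∈ H) (hg : g * x * g⁻¹ ∈ H) :
    ∃ n ∈ normalizer (H : Set G), n * x * n⁻¹ = g * x * g⁻¹ := by
  obtain ⟨Q, hQ, hTQ, -, -, k, hk, hn⟩ := h.exists_core g
  refine ⟨k⁻¹ * g, hn, ?_⟩
  set n := k⁻¹ * g with hnd
  have hy : n * x * n⁻¹ ∈ H := mem_pow_conj hn hx
  have h1 : g * x * g⁻¹ = k * (n * x * n⁻¹) * k⁻¹ := by rw [hnd]; group
  set y := n * x * n⁻¹ with hyd
  have h2 : k * y * k⁻¹ * y⁻¹ ∈ H := mul_mem (h1 ▸ hg) (inv_mem hy)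
  have h3 : k * y * k⁻¹ * y⁻¹ ∈ Q := by
    have h4 : y * k⁻¹ * y⁻¹ ∈ Q := mem_pow_conj (hTQ (mem_sup_left hy)) (inv_mem hk)
    have h5 : k * y * k⁻¹ * y⁻¹ = k * (y * k⁻¹ * y⁻¹) := by group
    rw [h5]; exact mul_mem hk h4
  have h6 : k * y * k⁻¹ * y⁻¹ ∈ H ⊓ Q := mem_inf.2 ⟨h2, h3⟩
  rw [inf_eq_bot h.pg hQ, mem_bot] at h6
  rw [h1, mul_inv_eq_one.1 h6]

/-- A nontrivial element of order a power of `p` is not central if the cores are trivial. -/
theorem eq_one_of_central [Finite G] [Fact p.Prime] (hc : pCore p G = ⊥) {z : G} {k : ℕ}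
    (hz : z ^ p ^ k = 1) (hcen : ∀ g : G, g * z = z * g) : z = 1 := by
  have h1 : (zpowers z).Normal := by
    refine ⟨fun x hx g => ?_⟩
    obtain ⟨n, rfl⟩ := hx
    have h2 : Commute g (z ^ n) := (show Commute g z from hcen g).zpow_right n
    simp only
    rw [h2.eq, mul_assoc, mul_inv_cancel, mul_one]
    exact ⟨n, rfl⟩
  have h2 : IsPGroup p (zpowers z) := by
    rw [IsPGroup.iff_card]
    obtain ⟨m, -, hm⟩ := (Nat.dvd_prime_pow (Fact.out : p.Prime)).1 (orderOf_dvd_of_pow_eq_one hz)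
    exact ⟨m, by rw [Nat.card_zpowers, hm]⟩
  have h3 := Lib.Cores.le_pCore h1 h2
  rw [hc, le_bot_iff, zpowers_eq_bot] at h3
  exact h3

/-- No involution of `H` is fixed by `N(H)`. -/
theorem no_fixed [Finite G] {H : Subgroup G} (h : EC 2 H) (hc' : pPrimeCore 2 G = ⊥)
    (hc : pCore 2 G = ⊥) {z : G} (hz : z ∈ H) (hz2 : z * z = 1) (hz1 : z ≠ 1) :
    ¬ ∀ n ∈ normalizer (H : Set G), n * z * n⁻¹ = z := by
  haveI : Fact (Nat.Prime 2) := ⟨Nat.prime_two⟩
  intro hfix
  obtain ⟨S, hHS⟩ := h.pg.exists_le_sylow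
  obtain ⟨-, hsc⟩ := (S3021.result H h.pg h.cl).2 S hHS
  have hzo : orderOf z = 2 := orderOf_eq_prime (by rw [pow_two]; exact hz2) hz1
  obtain ⟨N, hN, hNodd, hNc⟩ := S0215.result S z hzo (hHS hz) (fun g hg => by
    have h1 := hsc.2 z hz g hg
    obtain ⟨n, hn, hn2⟩ := h.fus hz h1
    rw [← hn2, hfix n hn])
  have hN1 : N = ⊥ := by
    have := Lib.Cores.le_pPrimeCore (p := 2) hN (Nat.coprime_two_right.2 hNodd)
    rwa [hc', le_bot_iff] at this
  refine hz1 (eq_one_of_central (p := 2) hc (k := 1) (by rw [pow_one, pow_two]; exact hz2) fun g => ?_)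
  have h1 := hNc g
  rw [hN1, mem_bot] at h1
  have h2 : z * g * z⁻¹ = g := mul_inv_eq_one.1 h1
  calc g * z = (z * g * z⁻¹) * z := by rw [h2]
    _ = z * g := by group

/-- Elements of odd order of `H θ`, `θ` a normalised subgroup of odd order. -/
theorem mem_of_coprime [Finite G] [Fact p.Prime] (hH : IsPGroup p H) {θ : Subgroup G}
    (hHθ : H ≤ normalizer (θ : Set G)) {x : G} (hx : x ∈ H ⊔ θ) (hxp : (orderOf x).Coprime p) :
    x ∈ θ := by
  set L : Subgroup G := H ⊔ θ with hL
  have hHL : H ≤ L := le_sup_left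
  have hθL : θ ≤ L := le_sup_right
  haveI : (θ.subgroupOf L).Normal :=
    normal_subgroupOf_of_le_normalizer (sup_le hHθ le_normalizer)
  have h1 := Lib.NormalHall.mem_of_orderOf_coprime_index (θ.subgroupOf L) (⟨x, hx⟩ : L)
    (index_coprime_aux (H := H.subgroupOf L) (hH.of_equiv (subgroupOfEquivOfLe hHL).symm) _
      (by rw [← subgroupOf_sup hHL hθL, ← hL, subgroupOf_self]) (by rw [Subgroup.orderOf_mk]; exact hxp))
  exact h1

/-- The core of the centraliser of `a` as a subgroup of `G`. -/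
abbrev th (p : ℕ) (a : G) : Subgroup G := centralizerPPrimeCore p a

theorem centralizer_eq [Finite G] [Fact p.Prime] (h : EC p H) (ih : IH p G) {a : G} (ha : a ∈ H)
    (hne : centralizer ({a} : Set G) ≠ ⊤) :
    centralizer ({a} : Set G) = (normalizer (H : Set G) ⊓ centralizer ({a} : Set G)) ⊔ th p a :=
  h.le_sup_of_lt ih _ (fun x hx => mem_centralizer_singleton_iff.2 (h.ab x hx a ha)) hne

/-- **Key lemma.** -/
theorem le_th [Finite G] [Fact p.Prime] (h : EC p H) (ih : IH p G) {a : G} (ha : a ∈ H)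
    (hne : centralizer ({a} : Set G) ≠ ⊤) {R : Subgroup G} (hRp : (Nat.card R).Coprime p)
    (hRa : R ≤ centralizer ({a} : Set G)) (hHR : H ≤ normalizer (R : Set G))
    (hfix : R ⊓ centralizer (H : Set G) ≤ th p a) : R ≤ th p a := by
  set C := centralizer ({a} : Set G) with hC
  have hHC : H ≤ C := fun x hx => mem_centralizer_singleton_iff.2 (h.ab x hx a ha)
  have hCθ : C ≤ normalizer (th p a : Set G) := Lib.LocalCore.le_normalizer_map_pPrimeCore p C
  have hC2 := h.centralizer_eq ih ha hne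
  have hCT : C ≤ normalizer ((H ⊔ th p a : Subgroup G) : Set G) := by
    rw [← hC] at hC2
    intro x hx
    have hx' := hx
    rw [hC2] at hx'
    have hxT : ∀ x ∈ (normalizer (H : Set G) ⊓ C : Subgroup G), x ∈ normalizer ((H ⊔ th p a : Subgroup G) : Set G) := by
      intro x hx
      obtain ⟨h1, h2⟩ := mem_inf.1 hx
      refine mem_normalizer_fintype (S := ((H ⊔ th p a : Subgroup G) : Set G)) fun y hy => ?_
      obtain ⟨b, hb, c, hc, rfl⟩ := mem_sup_norm (hHC.trans hCθ) hy
      have h3 : x * (b * c) * x⁻¹ = (x * b * x⁻¹) * (x * c * x⁻¹) := by group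
      rw [h3]
      exact mul_mem (mem_sup_left (mem_pow_conj h1 hb)) (mem_sup_right (mem_pow_conj (hCθ h2) hc))
    exact (sup_le hxT (le_sup_right.trans le_normalizer) : _ ≤ normalizer ((H ⊔ th p a : Subgroup G) : Set G)) hx'
  have hHN : H ≤ normalizer ((th p a ⊓ R : Subgroup G) : Set G) :=
    Lib.MinNormal.le_normalizer_inf (hHC.trans hCθ) hHR
  have hpN : ¬ p ∣ Nat.card ↥(th p a ⊓ R : Subgroup G) := by
    have h1 : (Nat.card ↥(th p a ⊓ R : Subgroup G)).Coprime p :=
      Nat.Coprime.coprime_dvd_left (card_dvd_of_le inf_le_right) hRp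
    exact prime_not_dvd_of_coprime h1
  intro x hx
  have hcent : ∀ b ∈ H, x⁻¹ * (b * x * b⁻¹) ∈ th p a ⊓ R := by
    intro b hb
    have h1 : x⁻¹ * (b * x * b⁻¹) ∈ R := mul_mem (inv_mem hx) (mem_pow_conj (hHR hb) hx)
    refine mem_inf.2 ⟨?_, h1⟩
    refine mem_of_coprime h.pg (hHC.trans hCθ) ?_
      (Nat.Coprime.coprime_dvd_left (Subgroup.orderOf_dvd_natCard R h1) hRp)
    have h2 : x⁻¹ * b * x ∈ H ⊔ th p a := by
      have := mem_pow_conj (inv_mem (hCT (hRa hx))) (mem_sup_left hb : b ∈ H ⊔ th p a)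
      simpa using this
    have h3 : x⁻¹ * (b * x * b⁻¹) = (x⁻¹ * b * x) * b⁻¹ := by group
    rw [h3]
    exact mul_mem h2 (mem_sup_left (inv_mem hb))
  obtain ⟨c, hc, hxc⟩ := Lib.CoprimeCommutator.exists_fixed_in_coset p H _ h.pg hHN hpN x hcent
  obtain ⟨h4, h5⟩ := mem_inf.1 hxc
  have hcR : c ∈ R := by
    have := mul_mem hx h5
    rwa [mul_inv_cancel_left] at this
  have hcθ : c ∈ th p a := hfix (mem_inf.2 ⟨hcR, hc⟩)
  have h6 : x = c * (x⁻¹ * c)⁻¹ := by group
  rw [h6]
  exact mul_mem hcθ (inv_mem h4)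

/-- `O_{p'}(C(H))` -/
abbrev DD (p : ℕ) (H : Subgroup G) : Subgroup G :=
  (pPrimeCore p ↥(centralizer (H : Set G))).map (centralizer (H : Set G)).subtype

theorem th_inf_le [Finite G] {a : G} (ha : a ∈ H) :
    th p a ⊓ centralizer (H : Set G) ≤ DD p H := by
  have hle : centralizer (H : Set G) ≤ centralizer ({a} : Set G) :=
    centralizer_le (Set.singleton_subset_iff.2 ha)
  refine Lib.LocalCore.le_map_pPrimeCore inf_le_right ?_ ?_
  · exact Nat.Coprime.coprime_dvd_left (card_dvd_of_le inf_le_left)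
      (Lib.LocalCore.card_map_pPrimeCore_coprime p _)
  · exact Lib.MinNormal.le_normalizer_inf
      (hle.trans (Lib.LocalCore.le_normalizer_map_pPrimeCore p _)) le_normalizer

theorem normalizer_le_normalizer_centralizer :
    normalizer (H : Set G) ≤ normalizer (centralizer (H : Set G) : Set G) := by
  intro n hn
  rw [mem_normalizer_iff]
  have key : ∀ n ∈ normalizer (H : Set G), ∀ x ∈ centralizer (H : Set G),
      n * x * n⁻¹ ∈ centralizer (H : Set G) := by
    intro n hn x hx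
    rw [mem_centralizer_iff] at hx ⊢
    intro y hy
    have h1 := hx _ (mem_pow_conj (inv_mem hn) hy)
    rw [inv_inv] at h1
    calc y * (n * x * n⁻¹) = n * ((n⁻¹ * y * n) * x) * n⁻¹ := by group
      _ = n * (x * (n⁻¹ * y * n)) * n⁻¹ := by rw [h1]
      _ = n * x * n⁻¹ * y := by group
  intro x
  refine ⟨key n hn x, fun hx => ?_⟩
  have h1 := key n⁻¹ (inv_mem hn) _ hx
  have h2 : n⁻¹ * (n * x * n⁻¹) * n⁻¹⁻¹ = x := by group
  rwa [h2] at h1

theorem le_normalizer_DD (p : ℕ) (H : Subgroup G) :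
    normalizer (H : Set G) ≤ normalizer (DD p H : Set G) :=
  normalizer_le_normalizer_centralizer.trans
    (OddOrderLocal.FittingHall.normalizer_le_normalizer_map _ _ (Lib.Cores.pPrimeCore_characteristic p))

theorem DD_le [Finite G] [Fact p.Prime] (h : EC p H) (ih : IH p G) {a : G} (ha : a ∈ H)
    (hne : centralizer ({a} : Set G) ≠ ⊤) : DD p H ≤ th p a := by
  set C := centralizer ({a} : Set G) with hC
  have hHC : H ≤ C := fun x hx => mem_centralizer_singleton_iff.2 (h.ab x hx a ha)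
  have hCθ : C ≤ normalizer (th p a : Set G) := Lib.LocalCore.le_normalizer_map_pPrimeCore p C
  have hθC : th p a ≤ C := map_subtype_le _
  have hle : centralizer (H : Set G) ≤ C := centralizer_le (Set.singleton_subset_iff.2 ha)
  have hDC : DD p H ≤ C := (map_subtype_le _).trans hle
  have hC2 := h.centralizer_eq ih ha hne
  rw [← hC] at hC2
  have hcop : (Nat.card ↥(th p a ⊔ DD p H : Subgroup G)).Coprime p := by
    refine Nat.Coprime.coprime_dvd_left
      (SignalizersComponents.CoprimeBasic.card_sup_dvd (hDC.trans hCθ)) ?_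
    exact Nat.Coprime.mul_left (Lib.LocalCore.card_map_pPrimeCore_coprime p _)
      (Lib.LocalCore.card_map_pPrimeCore_coprime p _)
  have hN : C ≤ normalizer ((th p a ⊔ DD p H : Subgroup G) : Set G) := by
    intro x hx
    have hx' := hx
    rw [hC2] at hx'
    refine (sup_le ?_ (le_sup_left.trans le_normalizer) :
      _ ≤ normalizer ((th p a ⊔ DD p H : Subgroup G) : Set G)) hx'
    intro x hx
    obtain ⟨h1, h2⟩ := mem_inf.1 hx
    refine mem_normalizer_fintype (S := ((th p a ⊔ DD p H : Subgroup G) : Set G)) fun y hy => ?_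
    rw [SetLike.mem_coe, sup_comm] at hy
    obtain ⟨b, hb, c, hc, rfl⟩ := mem_sup_norm (hDC.trans hCθ) hy
    have h3 : x * (b * c) * x⁻¹ = (x * b * x⁻¹) * (x * c * x⁻¹) := by group
    rw [h3]
    exact mul_mem (mem_sup_right (mem_pow_conj (le_normalizer_DD p H h1) hb))
      (mem_sup_left (mem_pow_conj (hCθ h2) hc))
  exact le_sup_right.trans (Lib.LocalCore.le_map_pPrimeCore (sup_le hθC hDC) hcop hN)

/-- Balance. -/
theorem balance [Finite G] [Fact p.Prime] (h : EC p H) (ih : IH p G) {a b : G} (ha : a ∈ H)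
    (hb : b ∈ H) (hne : centralizer ({b} : Set G) ≠ ⊤) :
    th p a ⊓ centralizer ({b} : Set G) ≤ th p b := by
  have hHa : H ≤ centralizer ({a} : Set G) := fun x hx =>
    mem_centralizer_singleton_iff.2 (h.ab x hx a ha)
  have hHb : H ≤ centralizer ({b} : Set G) := fun x hx =>
    mem_centralizer_singleton_iff.2 (h.ab x hx b hb)
  refine h.le_th ih hb hne ?_ inf_le_right ?_ ?_
  · exact Nat.Coprime.coprime_dvd_left (card_dvd_of_le inf_le_left)
      (Lib.LocalCore.card_map_pPrimeCore_coprime p _)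
  · exact Lib.MinNormal.le_normalizer_inf
      (hHa.trans (Lib.LocalCore.le_normalizer_map_pPrimeCore p _)) (hHb.trans le_normalizer)
  · exact (le_inf (inf_le_left.trans inf_le_left) inf_le_right).trans
      ((th_inf_le ha).trans (h.DD_le ih hb hne))

/-- `Ω₁(H)`, `p = 2`. -/
abbrev om2 {H : Subgroup G} (h : EC 2 H) : Subgroup G := om H h.ab

theorem normalizer_le_om {H : Subgroup G} (h : EC 2 H) :
    normalizer (H : Set G) ≤ normalizer (h.om2 : Set G) := by
  intro n hn
  rw [mem_normalizer_iff] at hn ⊢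
  intro x
  change (x ∈ H ∧ x * x = 1) ↔ (n * x * n⁻¹ ∈ H ∧ _)
  have h4 : n * x * n⁻¹ * (n * x * n⁻¹) = 1 ↔ x * x = 1 := by
    have : n * x * n⁻¹ * (n * x * n⁻¹) = n * (x * x) * n⁻¹ := by group
    rw [this, conj_eq_one_iff]
  rw [h4]
  exact and_congr_left' (hn x)

/-- The odd order theorem. -/
theorem oddSol (G : Type u) [Group G] [Finite G] : Intrinsic.Functor.OddSol G := fun _ hY =>
  S0205.result hY

/-- **Rank at least three.** -/
theorem card_om_lt [Finite G] {H : Subgroup G} (h : EC 2 H) (ih : IH 2 G) (hF : ¬ Fac 2 H)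
    (hc' : pPrimeCore 2 G = ⊥) (hc : pCore 2 G = ⊥) : Nat.card h.om2 < 8 := by
  haveI : Fact (Nat.Prime 2) := ⟨Nat.prime_two⟩
  by_contra hlt
  push Not at hlt
  set E := h.om2 with hE
  have hEc : ∀ a ∈ E, ∀ b ∈ E, a * b = b * a := fun a ha b hb => h.ab a ha.1 b hb.1
  have hE2 : ∀ a ∈ E, a * a = 1 := fun a ha => ha.2
  have hne : ∀ a ∈ E, a ≠ 1 → centralizer ({a} : Set G) ≠ ⊤ := by
    intro a ha ha1 htop
    refine ha1 (eq_one_of_central (p := 2) hc (k := 1) (by rw [pow_one, pow_two]; exact ha.2) fun g => ?_)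
    have h1 : g ∈ centralizer ({a} : Set G) := by rw [htop]; trivial
    exact mem_centralizer_singleton_iff.1 h1
  obtain ⟨hW, hWc⟩ := Intrinsic.Functor.closure_of_rank (oddSol G) hEc
    (fun a ha => by rw [pow_two]; exact ha.2) hlt
    (fun a ha ha1 b hb hb1 => h.balance ih ha.1 hb.1 (hne b hb hb1))
  set W := Intrinsic.Functor.W E with hWd
  have hQ : ∀ g : G, g ∈ normalizer (H : Set G) ⊔ W := by
    intro g
    obtain ⟨Q, hQ, hTQ, hHQ, hQN, k, hk, hkg⟩ := h.exists_core g
    have hHQN : H ≤ normalizer (Q : Set G) := le_sup_left.trans hTQ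
    have hQW : Q ≤ W := by
      refine Intrinsic.Functor.gen_le hEc hE2 (by omega) (Nat.coprime_two_right.1 hQ)
        ((show E ≤ H from fun x hx => hx.1).trans hHQN) ?_
      intro f hf hf1
      refine le_trans ?_ (Intrinsic.Functor.le_W hf hf1)
      refine h.le_th ih hf.1 (hne f hf hf1) ?_ inf_le_right ?_ ?_
      · exact Nat.Coprime.coprime_dvd_left (card_dvd_of_le inf_le_left) hQ
      · exact Lib.MinNormal.le_normalizer_inf hHQN
          ((show H ≤ centralizer ({f} : Set G) from fun x hx =>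
            mem_centralizer_singleton_iff.2 (h.ab x hx f hf.1)).trans le_normalizer)
      · have h1 : Q ⊓ centralizer ({f} : Set G) ⊓ centralizer (H : Set G) ≤ Q ⊓ normalizer (H : Set G) :=
          le_inf (inf_le_left.trans inf_le_left)
            (inf_le_right.trans (centralizer_le_normalizer _))
        rw [hQN] at h1
        exact h1.trans bot_le
    have h1 : g = k * (k⁻¹ * g) := by group
    rw [h1]
    exact mul_mem (mem_sup_right (hQW hk)) (mem_sup_left hkg)
  have hNW : normalizer (W : Set G) = ⊤ := by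
    rw [eq_top_iff]
    intro g _
    exact (sup_le (h.normalizer_le_om.trans (Intrinsic.Functor.normalizer_le E)) le_normalizer :
      normalizer (H : Set G) ⊔ W ≤ normalizer (W : Set G)) (hQ g)
  have hW1 : W = ⊥ := by
    have := Lib.Cores.le_pPrimeCore (p := 2) (normalizer_eq_top_iff.1 hNW) (Nat.coprime_two_right.2 hW)
    rwa [hc', le_bot_iff] at this
  apply hF
  unfold Fac
  rw [eq_top_iff]
  intro g _
  have := hQ g
  rw [hW1, sup_bot_eq] at this
  exact mem_sup_left this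

/-- **The 2-rank is two.** -/
theorem card_om_eq [Finite G] {H : Subgroup G} (h : EC 2 H) (ih : IH 2 G) (hF : ¬ Fac 2 H)
    (hc' : pPrimeCore 2 G = ⊥) (hc : pCore 2 G = ⊥) : Nat.card h.om2 = 4 := by
  haveI : Fact (Nat.Prime 2) := ⟨Nat.prime_two⟩
  have h8 := h.card_om_lt ih hF hc' hc
  set E := h.om2 with hE
  have hEp : IsPGroup 2 E := h.pg.to_le fun x hx => hx.1
  have hH1 : H ≠ ⊥ := by
    rintro rfl
    exact hF (fac_of_normal inferInstance)
  have hE1 : Nat.card E ≠ 1 := by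
    intro h1
    have h2 : ¬ 2 ∣ Nat.card H := by
      intro hd
      obtain ⟨x, hx⟩ := exists_prime_orderOf_dvd_card' 2 hd
      have h3 : (x : G) ∈ E := ⟨x.2, by
        rw [← pow_two, ← Subgroup.coe_pow, ← hx, pow_orderOf_eq_one, Subgroup.coe_one]⟩
      rw [Subgroup.card_eq_one.1 h1, mem_bot] at h3
      have h4 : x = 1 := Subtype.ext h3
      rw [h4, orderOf_one] at hx
      omega
    obtain ⟨n, hn⟩ := h.pg.exists_card_eq
    rcases Nat.eq_zero_or_pos n with rfl | hn0
    · rw [pow_zero] at hn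
      exact hH1 (Subgroup.card_eq_one.1 hn)
    · exact h2 (hn ▸ dvd_pow_self 2 hn0.ne')
  have hE2 : Nat.card E ≠ 2 := by
    intro h2
    obtain ⟨z, hz, hz1, hzu⟩ := exists_unique_of_card_two h2
    refine h.no_fixed hc' hc hz.1 hz.2 hz1 fun n hn => ?_
    refine hzu _ (mem_pow_conj (h.normalizer_le_om hn) hz) ?_
    intro h3
    exact hz1 (conj_eq_one_iff.1 h3)
  obtain ⟨n, hn⟩ := hEp.exists_card_eq
  rw [hn] at h8 hE1 hE2 ⊢
  have h3 : n < 3 := (Nat.pow_lt_pow_iff_right (by norm_num : 1 < 2)).1 (by simpa using h8)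
  interval_cases n
  · simp at hE1
  · simp at hE2
  · norm_num

/-- `Ω₁(H)` lies in the component. -/
theorem om_le [Finite G] {H : Subgroup G} (h : EC 2 H) (hc' : pPrimeCore 2 G = ⊥)
    (hc : pCore 2 G = ⊥) (h4 : Nat.card h.om2 = 4) (A : Subgroup G) [A.Normal] (htop : H ⊔ A = ⊤) :
    h.om2 ≤ A := by
  haveI : Fact (Nat.Prime 2) := ⟨Nat.prime_two⟩
  set E := h.om2 with hE
  -- commutators lie in `A`
  have hcomm : ∀ g x : G, g * x * g⁻¹ * x⁻¹ ∈ A := by
    intro g x
    have hg : g ∈ H ⊔ A := by rw [htop]; trivial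
    have hx : x ∈ H ⊔ A := by rw [htop]; trivial
    obtain ⟨a, ha, b, hb, rfl⟩ := mem_sup_of_normal_right.1 hg
    obtain ⟨c, hc, d, hd, rfl⟩ := mem_sup_of_normal_right.1 hx
    rw [← QuotientGroup.eq_one_iff]
    have hb' : (QuotientGroup.mk b : G ⧸ A) = 1 := (QuotientGroup.eq_one_iff b).2 hb
    have hd' : (QuotientGroup.mk d : G ⧸ A) = 1 := (QuotientGroup.eq_one_iff d).2 hd
    simp only [QuotientGroup.mk_mul, QuotientGroup.mk_inv, hb', hd', mul_one]
    rw [← QuotientGroup.mk_mul, ← QuotientGroup.mk_inv, ← QuotientGroup.mk_mul,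
      ← QuotientGroup.mk_inv, ← QuotientGroup.mk_mul, h.ab a ha c hc]
    have : c * a * a⁻¹ * c⁻¹ = 1 := by group
    rw [this]; rfl
  have hkey : ∀ z ∈ E, z ≠ 1 → ∃ n ∈ normalizer (H : Set G), n * z * n⁻¹ ≠ z := by
    intro z hz hz1
    have := h.no_fixed hc' hc hz.1 hz.2 hz1
    push Not at this
    exact this
  obtain ⟨z, hzE, hz1, -⟩ := Four.exists_ne_of_card (show 2 < Nat.card E by omega) 1
  obtain ⟨n, hn, hnz⟩ := hkey z hzE hz1
  have hnE := h.normalizer_le_om hn
  set u := n * z * n⁻¹ * z⁻¹ with hu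
  have huE : u ∈ E := mul_mem (mem_pow_conj hnE hzE) (inv_mem hzE)
  have huA : u ∈ A := hcomm n z
  have hu1 : u ≠ 1 := fun h1 => hnz (mul_inv_eq_one.1 h1)
  obtain ⟨m, hm, hmu⟩ := hkey u huE hu1
  set v := m * u * m⁻¹ with hv
  have hvE : v ∈ E := mem_pow_conj (h.normalizer_le_om hm) huE
  have hvA : v ∈ A := Normal.conj_mem inferInstance u huA m
  have hv1 : v ≠ 1 := fun h1 => hu1 (conj_eq_one_iff.1 h1)
  intro x hx
  by_cases hx1 : x = 1
  · rw [hx1]; exact one_mem _
  by_cases hxu : x = u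
  · rw [hxu]; exact huA
  have hvi : v⁻¹ = v := inv_eq_of_mul_eq_one_left hvE.2
  rcases Four.four_cases h4 huE huE.2 hu1 hvE hx hv1 hmu hx1 hxu with h5 | h5
  · rw [h5]; exact inv_mem hvA
  · rw [h5]; exact mul_mem (inv_mem hvA) huA

/-- There is no minimal counterexample. -/
theorem false_of_step [Finite G] {H : Subgroup G} (h : EC 2 H) (ih : IH 2 G) (hF : ¬ Fac 2 H) :
    False := by
  haveI : Fact (Nat.Prime 2) := ⟨Nat.prime_two⟩
  obtain ⟨hc', hc, A, hA, hsimple, hna, -, htop⟩ := h.step ih hF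
  haveI := hA
  haveI := hsimple
  have h4 := h.card_om_eq ih hF hc' hc
  have hEA := h.om_le hc' hc h4 A htop
  set E := h.om2 with hE
  obtain ⟨S, hHS⟩ := h.pg.exists_le_sylow
  obtain ⟨-, hsc⟩ := (S3021.result H h.pg h.cl).2 S hHS
  obtain ⟨T, hT⟩ := H571.SylowNumber.exists_sylow_inf S A
  have hTS : ∀ x : A, x ∈ (T : Subgroup A) ↔ (x : G) ∈ (S : Subgroup G) := by
    intro x; rw [hT, mem_subgroupOf]
  have hnaA : ∃ a b : A, a * b ≠ b * a := by
    push Not at hna
    obtain ⟨x, hx, y, hy, hxy⟩ := hna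
    exact ⟨⟨x, hx⟩, ⟨y, hy⟩, fun h1 => hxy (congrArg Subtype.val h1)⟩
  have hEcard : Nat.card (E.subgroupOf A) = 4 := by
    rw [Nat.card_congr (subgroupOfEquivOfLe hEA).toEquiv]; exact h4
  refine Four.false_of_star hnaA (E := E.subgroupOf A) ?_ hEcard ?_ T ?_
  · intro g
    obtain ⟨Q, hQ, hTQ, hHQ, hQN, k, hk, hkg⟩ := h.exists_core (g : G)
    have hHQN : H ≤ normalizer (Q : Set G) := le_sup_left.trans hTQ
    have hQA : Q ≤ A := by
      intro x hx
      exact Lib.NormalHall.mem_of_orderOf_coprime_index A x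
        (index_coprime_aux h.pg A htop
          (Nat.Coprime.coprime_dvd_left (Subgroup.orderOf_dvd_natCard Q hx) hQ))
    have hEQ : E ≤ normalizer (Q : Set G) := fun x hx => hHQN hx.1
    refine ⟨Q.subgroupOf A, ?_, ?_, ⟨k, hQA hk⟩, hk, ?_⟩
    · rw [Nat.card_congr (subgroupOfEquivOfLe hQA).toEquiv]
      exact Nat.coprime_two_right.1 hQ
    · rw [← subgroupOf_normalizer_eq hQA]
      exact fun x hx => hEQ hx
    · rw [← subgroupOf_normalizer_eq hEA]
      exact h.normalizer_le_om hkg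
  · intro x hx
    have h1 : (x : G) ∈ E := hx
    exact Subtype.ext h1.2
  · refine ⟨fun x hx => (hTS x).2 (hHS (show (x : G) ∈ E from hx).1), ?_⟩
    intro x hx g hg
    have h1 : (x : G) ∈ E := hx
    have h2 := hsc.2 (x : G) h1.1 (g : G) ((hTS _).1 hg)
    refine ⟨h2, ?_⟩
    have h3 : (g : G) * x * (g : G)⁻¹ * ((g : G) * x * (g : G)⁻¹) = g * (x * x) * (g : G)⁻¹ := by group
    change (g : G) * x * (g : G)⁻¹ * ((g : G) * x * (g : G)⁻¹) = 1
    rw [h3, h1.2]; group

/-- **The factorization for `p = 2`.** -/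
theorem fac_two_aux : ∀ (n : ℕ) (G : Type u) [Group G] [Finite G] (H : Subgroup G), EC 2 H →
    Nat.card G ≤ n → Fac 2 H := by
  haveI : Fact (Nat.Prime 2) := ⟨Nat.prime_two⟩
  intro n
  induction n with
  | zero =>
    intro G _ _ H _ hn
    have : 0 < Nat.card G := Nat.card_pos
    omega
  | succ n ihn =>
    intro G _ _ H h hn
    by_contra hF
    refine h.false_of_step ?_ hF
    intro G' _ _ H' h' hlt
    exact ihn G' H' h' (by omega)

theorem fac_two [Finite G] {H : Subgroup G} (h : EC 2 H) : Fac 2 H :=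
  fac_two_aux (Nat.card G) G H h le_rfl

end EC

end Cfsg.Agent.H266

private theorem dce_2cbeea536e70 : _root_.True := by
  try have : _root_.True := by simp only [_root_.Cfsg.Agent.H266.EC.om2.congr_simp]
  exact _root_.True.intro
end

-- part: H266/Fixed
section
prune_inst 0x10004100440012000018000210003c40a200000200480000d0020004048a9c4000002821b02008100010084420380040009800100010000000000400011800a0808050008208a08404000f802282000000008000000000000000000000041000000000000
set_option linter.all false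
open scoped Cfsg.Agent.FastGrp

-- part: H266/Glau
section
/-!
# The values of an extension on `C_R(w) w` (helper266)

`R` normal in `Γ`, `w` of order prime to `|R|`, `X` a character of `Γ` with irreducible restriction to `R`:
`X (c w) = κ β(c)` for `c ∈ C_R(w)`, with `κ ≠ 0` and `β` an irreducible character of `C_R(w)`.
-/

set_option autoImplicit false
set_option linter.style.haveILetI false

namespace Cfsg.Agent.H266.Glau

open Subgroup Cfsg Cfsg.Agent.Characters.Core

variable {Γ : Type*} [Group Γ] [Finite Γ]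

/-- The case `Γ = R ⟨w⟩`. -/
theorem values_top (R : Subgroup Γ) [R.Normal] (w : Γ) (hcop : (Nat.card R).Coprime (orderOf w))
    (htop : R ⊔ zpowers w = ⊤) {X : Γ → ℂ} (hX : IsCharacter Γ X)
    (hres : IsIrrCharacter R (fun r : R => X r)) :
    ∃ κ : ℂ, κ ≠ 0 ∧ ∃ β : ↥(R ⊓ centralizer ((zpowers w : Subgroup Γ) : Set Γ)) → ℂ,
      IsIrrCharacter _ β ∧
        ∀ c : ↥(R ⊓ centralizer ((zpowers w : Subgroup Γ) : Set Γ)), X (c * w) = κ * β c := by
  classical
  letI : Fintype Γ := Fintype.ofFinite Γ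
  set S := zpowers w with hS
  set C := R ⊓ centralizer (S : Set Γ) with hC
  letI : Fintype R := Fintype.ofFinite R
  letI : Fintype C := Fintype.ofFinite C
  have hcopS : (Nat.card R).Coprime (Nat.card S) := by rw [hS, Nat.card_zpowers]; exact hcop
  have hnorm : ∀ s ∈ S, ∀ g ∈ R, s * g * s⁻¹ ∈ R := fun s _ g hg => Subgroup.Normal.conj_mem inferInstance g hg s
  have hidx : R.index = Nat.card S := H594.Cyclic.index_eq hcopS htop
  have hcf : IsClassFunction Γ X := isCharacter_isClassFunction hX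
  obtain ⟨χh, hext, hdet⟩ := H594.Cyclic.exists_canonical R S hnorm hcopS hidx htop ⟨_, hres⟩ (by
    intro s _ g g' hg
    change X g' = X g
    rw [hg]
    exact hcf g s)
  obtain ⟨β, ε, hε, hval, -⟩ := H594.Cyclic.core R S hcopS hidx C rfl χh.2 (by
    have : (fun g : R => (χh : Γ → ℂ) g) = fun g : R => X g := funext fun g => hext g
    rw [this]
    exact hres) hdet (s := w) rfl
  obtain ⟨l, hl, hX2⟩ := CharactersDeep.ExtUnique.exists_hom_mul_of_restrict_eq R (isIrr_isCharacter χh.2) hX hres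
    (fun n => hext n) fun n => rfl
  have hε0 : (ε : ℂ) ≠ 0 := by
    rcases hε with rfl | rfl <;> simp
  refine ⟨ε * l w, mul_ne_zero hε0 (l w).ne_zero, β, β.2, fun c => ?_⟩
  have hcR : (c : Γ) ∈ R := (mem_inf.1 c.2).1
  rw [hX2, hval c w rfl, map_mul, hl _ hcR, one_mul]
  ring

/-- The values of an extension on the coset. -/
theorem values (R : Subgroup Γ) [R.Normal] (w : Γ) (hcop : (Nat.card R).Coprime (orderOf w))
    {X : Γ → ℂ} (hX : IsCharacter Γ X) (hres : IsIrrCharacter R (fun r : R => X r)) :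
    ∃ κ : ℂ, κ ≠ 0 ∧ ∃ β : ↥(R ⊓ centralizer ({w} : Set Γ)) → ℂ,
      IsIrrCharacter _ β ∧ ∀ c : ↥(R ⊓ centralizer ({w} : Set Γ)), X (c * w) = κ * β c := by
  classical
  set L : Subgroup Γ := R ⊔ zpowers w with hL
  have hRL : R ≤ L := le_sup_left
  have hwL : w ∈ L := (le_sup_right : zpowers w ≤ L) (mem_zpowers w)
  set R' := R.subgroupOf L with hR'
  set w' : L := ⟨w, hwL⟩ with hw'
  have htop' : R' ⊔ zpowers w' = ⊤ := by
    have h1 : zpowers w' = (zpowers w).subgroupOf L := by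
      ext ⟨x, hx⟩
      rw [mem_subgroupOf, mem_zpowers_iff, mem_zpowers_iff]
      constructor
      · rintro ⟨k, hk⟩
        exact ⟨k, by simpa [w'] using congrArg Subtype.val hk⟩
      · rintro ⟨k, hk⟩
        exact ⟨k, Subtype.ext (by simpa [w'] using hk)⟩
    rw [h1, hR', ← subgroupOf_sup hRL le_sup_right, ← hL, subgroupOf_self]
  have hcard : Nat.card R' = Nat.card R := Nat.card_congr (subgroupOfEquivOfLe hRL).toEquiv
  have hord : orderOf w' = orderOf w := by rw [hw', orderOf_mk]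
  obtain ⟨κ, hκ, β, hβ, hval⟩ := values_top R' w' (by rw [hcard, hord]; exact hcop) htop'
    (X := fun x : L => X x) (isCharacter_comp L.subtype hX) (by
      have := isIrr_comp (subgroupOfEquivOfLe hRL).toMonoidHom (subgroupOfEquivOfLe hRL).surjective hres
      exact this)
  refine ⟨κ, hκ, ?_⟩
  -- transport
  have hmem : ∀ c : ↥(R ⊓ centralizer ({w} : Set Γ)), (⟨c, hRL (mem_inf.1 c.2).1⟩ : L) ∈
      R' ⊓ centralizer ((zpowers w' : Subgroup L) : Set L) := by
    intro c
    refine mem_inf.2 ⟨mem_subgroupOf.2 (mem_inf.1 c.2).1, mem_centralizer_iff.2 ?_⟩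
    rintro _ ⟨k, rfl⟩
    have h1 : Commute (c : Γ) w := mem_centralizer_singleton_iff.1 (mem_inf.1 c.2).2
    have h2 := (h1.zpow_right k).eq
    apply Subtype.ext
    simpa only [w', _root_.Subgroup.coe_mul, _root_.SubgroupClass.coe_zpow] using h2.symm
  let f : ↥(R ⊓ centralizer ({w} : Set Γ)) →*
      ↥(R' ⊓ centralizer ((zpowers w' : Subgroup L) : Set L)) :=
    { toFun := fun c => ⟨⟨c, hRL (mem_inf.1 c.2).1⟩, hmem c⟩
      map_one' := rfl
      map_mul' := fun a b => rfl }
  have hf : Function.Surjective f := by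
    rintro ⟨⟨x, hx⟩, hx12⟩
    obtain ⟨hx1, hx2⟩ := mem_inf.1 hx12
    refine ⟨⟨x, mem_inf.2 ⟨mem_subgroupOf.1 hx1, mem_centralizer_singleton_iff.2 ?_⟩⟩, rfl⟩
    have h1 := mem_centralizer_iff.1 hx2 w' (mem_zpowers w')
    exact (congrArg Subtype.val h1).symm
  exact ⟨β ∘ f, isIrr_comp f hf hβ, fun c => hval (f c)⟩

end Cfsg.Agent.H266.Glau
end

-- part: H266/Fixed
section
/-!
# Extremely closed abelian `p`-subgroups, `p` odd: the kernels of the invariant characters (helper266)

`G = R H`, `R` a normal `p'`-subgroup, `H` an extremely closed abelian `p`-subgroup, `p` odd.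

* `EC.val_eq` : `X (u w) = X w` for `u` in an `H`-invariant `D ≤ C_R(w)` with `C_D(H) = 1`;
* `EC.mul_eq` : `X x * X y = X 1 * X (x y)` for `x, y ∈ H` with `x y` not centralising `R`;
* `EC.ker_aux` : every `H`-invariant irreducible character of `R` has `[R, H]` in its kernel.
-/

set_option autoImplicit false
set_option linter.style.haveILetI false

namespace Cfsg.Agent.H266

open Subgroup Cfsg Cfsg.Agent.Characters Cfsg.Agent.Characters.Core
open scoped ComplexConjugate commutatorElement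

universe u

/-- The induction hypothesis. -/
def KerAt (p : ℕ) (G : Type u) [Group G] : Prop :=
  ∀ (G' : Type u) [Group G'] [Finite G'] (H' R' : Subgroup G'), EC p H' → R'.Normal →
    (Nat.card R').Coprime p → R' ⊔ H' = ⊤ → Nat.card G' < Nat.card G → ∀ χ : R' → ℂ, IsIrrCharacter R' χ →
    (∀ h ∈ H', ∀ r r' : R', (r' : G') = h * r * h⁻¹ → χ r' = χ r) →
    ∀ u : R', (u : G') ∈ ⁅R', H'⁆ → χ u = χ 1

namespace EC

variable {G : Type u} [Group G] {p : ℕ} {H R : Subgroup G}

theorem coprime_card [Finite G] [Fact p.Prime] (h : EC p H) {n : ℕ} (hn : n.Coprime p) :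
    n.Coprime (Nat.card H) := by
  obtain ⟨k, hk⟩ := h.pg.exists_card_eq
  rw [hk]
  exact hn.pow_right k

theorem coprime_orderOf [Finite G] [Fact p.Prime] (h : EC p H) {n : ℕ} (hn : n.Coprime p) {w : G}
    (hw : w ∈ H) : n.Coprime (orderOf w) := by
  refine Nat.Coprime.coprime_dvd_right ?_ (h.coprime_card hn)
  have := orderOf_dvd_natCard (⟨w, hw⟩ : H)
  rwa [orderOf_mk] at this

/-- The normaliser of `H` centralises `H`. -/
theorem conj_eq_of_normalizer [Finite G] [Fact p.Prime] (h : EC p H) [hRn : R.Normal]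
    (hR : (Nat.card R).Coprime p) (htop : R ⊔ H = ⊤) {n : G} (hn : n ∈ normalizer (H : Set G)) {y : G}
    (hy : y ∈ H) : n * y * n⁻¹ = y := by
  have h1 : n ∈ R ⊔ H := by rw [htop]; trivial
  rw [mem_sup_of_normal_left] at h1
  obtain ⟨r, hr, k, hk, rfl⟩ := h1
  have hrn : r ∈ normalizer (H : Set G) := by
    have := mul_mem hn (inv_mem (le_normalizer hk))
    rwa [mul_inv_cancel_right] at this
  have h2 : r * y * r⁻¹ * y⁻¹ ∈ H := mul_mem (mem_pow_conj hrn hy) (inv_mem hy)
  have h3 : r * y * r⁻¹ * y⁻¹ ∈ R := by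
    have e : r * y * r⁻¹ * y⁻¹ = r * (y * r⁻¹ * y⁻¹) := by group
    rw [e]
    exact mul_mem hr (hRn.conj_mem _ (inv_mem hr) y)
  have h4 : r * y * r⁻¹ * y⁻¹ ∈ H ⊓ R := mem_inf.2 ⟨h2, h3⟩
  rw [inf_eq_bot h.pg hR, mem_bot] at h4
  have h5 : r * y * r⁻¹ = y := mul_inv_eq_one.1 h4
  calc r * k * y * (r * k)⁻¹ = r * (k * y * k⁻¹) * r⁻¹ := by group
    _ = r * y * r⁻¹ := by rw [h.ab k hk y hy, mul_inv_cancel_right]
    _ = y := h5

theorem val_eq [Finite G] [Fact p.Prime] (h : EC p H) (ih : KerAt p G) [hRn : R.Normal]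
    (hR : (Nat.card R).Coprime p) (htop : R ⊔ H = ⊤) {X : G → ℂ} (hX : IsCharacter G X)
    (hres : IsIrrCharacter R (fun r : R => X r)) {w : G} (hw : w ∈ H)
    (hne : centralizer ({w} : Set G) ≠ ⊤) {D : Subgroup G} (hDR : D ≤ R)
    (hHD : H ≤ normalizer (D : Set G)) (hDw : D ≤ centralizer ({w} : Set G))
    (hfix : D ⊓ centralizer (H : Set G) = ⊥) {u : G} (hu : u ∈ D) : X (u * w) = X w := by
  have hv := Glau.values R w (h.coprime_orderOf hR hw) hX hres
  have hHL : H ≤ centralizer ({w} : Set G) := fun x hx => mem_centralizer_singleton_iff.2 (h.ab x hx w hw)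
  obtain ⟨L, hL⟩ : ∃ L : Subgroup G, centralizer ({w} : Set G) = L := ⟨_, rfl⟩
  rw [hL] at hv hne hDw hHL
  obtain ⟨κ, hκ, β, hβ, hval⟩ := hv
  set H' := H.subgroupOf L with hH'
  set R' := R.subgroupOf L with hR'
  have hcard' : (Nat.card R').Coprime p := by
    refine Nat.Coprime.coprime_dvd_left ?_ hR
    rw [hR', ← Subgroup.card_map_of_injective (f := L.subtype) L.subtype_injective]
    exact card_dvd_of_le (by rw [subgroupOf_map_subtype]; exact inf_le_left)
  have htop' : R' ⊔ H' = ⊤ := by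
    rw [eq_top_iff]
    rintro ⟨l, hl⟩ -
    have h1 : l ∈ R ⊔ H := by rw [htop]; trivial
    rw [mem_sup_of_normal_left] at h1
    obtain ⟨r, hr, k, hk, rfl⟩ := h1
    have hrL : r ∈ L := by
      have := mul_mem hl (inv_mem (hHL hk))
      rwa [mul_inv_cancel_right] at this
    exact mul_mem ((le_sup_left : R' ≤ R' ⊔ H') (show (⟨r, hrL⟩ : L) ∈ R' from mem_subgroupOf.2 hr))
      ((le_sup_right : H' ≤ R' ⊔ H') (show (⟨k, hHL hk⟩ : L) ∈ H' from mem_subgroupOf.2 hk))
  have hlt : Nat.card L < Nat.card G := by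
    rcases lt_or_eq_of_le (Nat.card_le_card_of_injective _ L.subtype_injective) with h1 | h1
    · exact h1
    · exact absurd (L.eq_top_of_card_eq h1) hne
  have hmem : ∀ x : R', ((x : L) : G) ∈ R ⊓ L := fun x => mem_inf.2 ⟨mem_subgroupOf.1 x.2, (x : L).2⟩
  let f : R' →* ↥(R ⊓ L) :=
    { toFun := fun x => ⟨((x : L) : G), hmem x⟩
      map_one' := rfl
      map_mul' := fun _ _ => rfl }
  have hf : Function.Surjective f := by
    rintro ⟨x, hx⟩
    exact ⟨⟨⟨x, (mem_inf.1 hx).2⟩, mem_subgroupOf.2 (mem_inf.1 hx).1⟩, rfl⟩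
  have hcf := isCharacter_isClassFunction hX
  have hinv : ∀ k ∈ H', ∀ r r' : R', (r' : L) = k * r * k⁻¹ → (β ∘ f) r' = (β ∘ f) r := by
    intro k hk r r' hr
    have hk' : (k : G) ∈ H := mem_subgroupOf.1 hk
    have h1 := hval (f r)
    have h2 := hval (f r')
    have h3 : (f r' : G) * w = k * ((f r : G) * w) * (k : G)⁻¹ := by
      have e1 : (f r' : G) = (k : G) * (f r : G) * (k : G)⁻¹ := congrArg Subtype.val hr
      rw [e1]
      have e2 : (k : G)⁻¹ * w = w * (k : G)⁻¹ := h.ab _ (inv_mem hk') _ hw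
      rw [mul_assoc _ (k : G)⁻¹ w, e2]
      group
    rw [h3, hcf, h1] at h2
    exact (mul_left_cancel₀ hκ h2).symm
  have hDD : ⁅D, H⁆ = D := by
    have h1 := S0026.result H D hHD
      ((h.coprime_card (Nat.Coprime.coprime_dvd_left (card_dvd_of_le hDR) hR)).symm)
      (Or.inl (Group.isSolvable_of_comm fun a b => Subtype.ext (h.ab a a.2 b b.2)))
    rwa [hfix, sup_bot_eq] at h1
  have hu' : (⟨u, hDw hu⟩ : L) ∈ ⁅R', H'⁆ := by
    have h1 : D ≤ (⁅R', H'⁆).map L.subtype := by
      rw [map_commutator, hR', hH', subgroupOf_map_subtype, subgroupOf_map_subtype, inf_eq_left.2 hHL]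
      calc D = ⁅D, H⁆ := hDD.symm
        _ ≤ _ := commutator_mono (le_inf hDR hDw) le_rfl
    obtain ⟨v, hv, hv2⟩ := h1 hu
    have : v = ⟨u, hDw hu⟩ := Subtype.ext hv2
    rwa [← this]
  have h1 := ih L H' R' (h.subgroupOf hHL) inferInstance hcard' htop' hlt (β ∘ f) (isIrr_comp f hf hβ) hinv
    ⟨⟨u, hDw hu⟩, mem_subgroupOf.2 (hDR hu)⟩ hu'
  have h2 := hval (f ⟨⟨u, hDw hu⟩, mem_subgroupOf.2 (hDR hu)⟩)
  have h3 := hval (f 1)
  change X (u * w) = _ at h2
  change X (1 * w) = _ at h3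
  rw [one_mul] at h3
  rw [h2, h3]
  exact congrArg _ h1

theorem apply_ne_zero [Finite G] [Fact p.Prime] (h : EC p H) [hRn : R.Normal]
    (hR : (Nat.card R).Coprime p) {X : G → ℂ} (hX : IsCharacter G X)
    (hres : IsIrrCharacter R (fun r : R => X r)) {w : G} (hw : w ∈ H) : X w ≠ 0 := by
  obtain ⟨κ, hκ, β, hβ, hval⟩ := Glau.values R w (h.coprime_orderOf hR hw) hX hres
  have h1 := hval 1
  rw [OneMemClass.coe_one, one_mul] at h1
  rw [h1]
  exact mul_ne_zero hκ (isIrr_apply_one_ne_zero hβ)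

theorem mul_eq [Finite G] [Fact p.Prime] (h : EC p H) (ih : KerAt p G) [hRn : R.Normal]
    (hR : (Nat.card R).Coprime p) (htop : R ⊔ H = ⊤) {X : G → ℂ} (hX : IsIrrCharacter G X)
    (hres : IsIrrCharacter R (fun r : R => X r)) {x y : G} (hx : x ∈ H) (hy : y ∈ H)
    (hne : centralizer ({x * y} : Set G) ≠ ⊤) : X x * X y = X 1 * X (x * y) := by
  have hcf := isIrr_isClassFunction hX
  refine S0943.result ⟨X, hX⟩ x y ?_
  intro x' y' hx' hy'
  obtain ⟨a, rfl⟩ := isConj_iff.1 hx'
  obtain ⟨b, rfl⟩ := isConj_iff.1 hy'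
  change X _ = X _
  set g : G := a⁻¹ * b with hg
  have h4 : a * x * a⁻¹ * (b * y * b⁻¹) = a * (x * (g * y * g⁻¹)) * a⁻¹ := by rw [hg]; group
  rw [h4, hcf]
  obtain ⟨Q, hQ, hTQ, hHQ, hQN, k, hk, hkg⟩ := h.exists_core g
  have hHQn : H ≤ normalizer (Q : Set G) := le_sup_left.trans hTQ
  have h5 := h.conj_eq_of_normalizer hR htop hkg hy
  have h6 : g * y * g⁻¹ = k * y * k⁻¹ := by
    calc g * y * g⁻¹ = k * (k⁻¹ * g * y * (k⁻¹ * g)⁻¹) * k⁻¹ := by group
      _ = k * y * k⁻¹ := by rw [h5]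
  set w : G := x * y with hw
  have hwH : w ∈ H := mul_mem hx hy
  -- `x (k y k⁻¹) = q w`
  have h7 : ∃ q ∈ Q, x * (g * y * g⁻¹) = q * w := by
    refine ⟨(x * k * x⁻¹) * (w * k * w⁻¹)⁻¹, mul_mem (mem_pow_conj (hHQn hx) hk)
      (inv_mem (mem_pow_conj (hHQn hwH) hk)), ?_⟩
    rw [h6, hw]
    group
  obtain ⟨q, hq, hqw⟩ := h7
  obtain ⟨z, -, c, hc, hzc⟩ := H594.CosetSum.exists_conj_mul (G := Q) (S := zpowers w) (by
      rintro _ ⟨j, rfl⟩ t ht
      exact mem_pow_conj (zpow_mem (hHQn hwH) j) ht) (by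
      rw [Nat.card_zpowers]
      exact h.coprime_orderOf hQ hwH) (s := w) rfl hq
  rw [hqw, hzc, hcf]
  have hQR : Q ≤ R := by
    intro t ht
    have h8 : t ∈ H ⊔ R := by rw [sup_comm, htop]; trivial
    refine mem_of_coprime h.pg (by rw [normalizer_eq_top_iff.2 hRn]; exact le_top) h8 ?_
    refine Nat.Coprime.coprime_dvd_left ?_ hQ
    have := orderOf_dvd_natCard (⟨t, ht⟩ : Q)
    rwa [orderOf_mk] at this
  have hHw : H ≤ centralizer ({w} : Set G) := fun t ht => mem_centralizer_singleton_iff.2 (h.ab t ht w hwH)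
  refine h.val_eq ih hR htop (isIrr_isCharacter hX) hres hwH hne
    (D := Q ⊓ centralizer ({w} : Set G)) (inf_le_left.trans hQR)
    (Lib.MinNormal.le_normalizer_inf hHQn (hHw.trans le_normalizer)) inf_le_right ?_ (mem_inf.2 ⟨(mem_inf.1 hc).1, ?_⟩)
  · rw [← le_bot_iff, ← hQN]
    exact le_inf (inf_le_left.trans inf_le_left) (inf_le_right.trans (centralizer_le_normalizer _))
  · exact mem_centralizer_singleton_iff.2 (mem_centralizer_iff.1 (mem_inf.1 hc).2 w (mem_zpowers w)).symm

theorem norm_eq [Finite G] [Fact p.Prime] (hp : p ≠ 2) (h : EC p H) (ih : KerAt p G) [hRn : R.Normal]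
    (hR : (Nat.card R).Coprime p) (htop : R ⊔ H = ⊤) {X : G → ℂ} (hX : IsIrrCharacter G X)
    (hres : IsIrrCharacter R (fun r : R => X r)) {d : ℕ} (hd : X 1 = d) {x : G} (hx : x ∈ H)
    (hne : centralizer ({x} : Set G) ≠ ⊤) : ‖X x‖ = d := by
  have hodd : Odd (orderOf x) := by
    obtain ⟨k, hk⟩ := h.pg ⟨x, hx⟩
    have h1 : x ^ p ^ k = 1 := congrArg Subtype.val hk
    exact Odd.of_dvd_nat (((Fact.out : p.Prime).odd_of_ne_two hp).pow) (orderOf_dvd_of_pow_eq_one h1)
  have hne2 : centralizer ({x * x} : Set G) ≠ ⊤ := by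
    intro htop2
    apply hne
    rw [eq_top_iff]
    intro g _
    have hg : g ∈ centralizer ({x * x} : Set G) := by rw [htop2]; trivial
    have hg2 : Commute g (x * x) := mem_centralizer_singleton_iff.1 hg
    obtain ⟨m, hm⟩ := hodd
    have h1 : x = (x * x) ^ (m + 1) := by
      rw [← pow_two, ← pow_mul]
      have : 2 * (m + 1) = orderOf x + 1 := by omega
      rw [this, pow_succ, pow_orderOf_eq_one, one_mul]
    have h2 : Commute g x := by
      rw [h1]
      exact hg2.pow_right _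
    exact mem_centralizer_singleton_iff.2 h2.eq
  have e1 := h.mul_eq ih hR htop hX hres hx hx hne2
  have e2 := h.mul_eq ih hR htop hX hres (inv_mem hx) (mul_mem hx hx) (by rwa [inv_mul_cancel_left])
  rw [inv_mul_cancel_left] at e2
  have hy0 := h.apply_ne_zero hR (isIrr_isCharacter hX) hres hx
  rw [isCharacter_apply_inv (isIrr_isCharacter hX)] at e2
  have e3 : conj (X x) * X x = (d : ℂ) * d := by
    rw [hd] at e1 e2
    have h1 : (conj (X x) * X x - (d : ℂ) * d) * X x = 0 := by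
      linear_combination (conj (X x)) * e1 + (d : ℂ) * e2
    rcases mul_eq_zero.1 h1 with h2 | h2
    · exact sub_eq_zero.1 h2
    · exact absurd h2 hy0
  rw [mul_comm, Complex.mul_conj'] at e3
  have e4 : ‖X x‖ ^ 2 = (d : ℝ) ^ 2 := by
    rw [pow_two (d : ℝ)]
    exact_mod_cast e3
  exact (pow_left_inj₀ (norm_nonneg _) (Nat.cast_nonneg d) two_ne_zero).1 e4

/-- The inductive step. -/
theorem ker_step [Finite G] [Fact p.Prime] (hp : p ≠ 2) (h : EC p H) (ih : KerAt p G) (hRn : R.Normal)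
    (hR : (Nat.card R).Coprime p) (htop : R ⊔ H = ⊤) (χ : R → ℂ) (hχ : IsIrrCharacter R χ)
    (hinv : ∀ h ∈ H, ∀ r r' : R, (r' : G) = h * r * h⁻¹ → χ r' = χ r) (u : R) (hu : (u : G) ∈ ⁅R, H⁆) :
    χ u = χ 1 := by
  classical
  letI : Fintype G := Fintype.ofFinite G
  have hcopH := h.coprime_card hR
  obtain ⟨χh, hext, -⟩ := H594.Cyclic.exists_canonical R H (fun s _ g hg => hRn.conj_mem g hg s) hcopH
    (H594.Cyclic.index_eq hcopH htop) htop ⟨χ, hχ⟩ hinv
  have hres : IsIrrCharacter R (fun r : R => (χh : G → ℂ) r) := by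
    have : (fun r : R => (χh : G → ℂ) r) = χ := funext fun r => hext r
    rw [this]
    exact hχ
  obtain ⟨d, -, hd⟩ := isIrr_apply_one χh.2
  have hnorm := fun x hx hne => h.norm_eq hp ih hR htop χh.2 hres hd (x := x) hx hne
  have hu1 := hext u
  have h11 := hext 1
  change (χh : G → ℂ) u = χ u at hu1
  change (χh : G → ℂ) 1 = χ 1 at h11
  rw [← hu1, ← h11]
  obtain ⟨χh, n, ρ, hρ, rfl⟩ := χh
  simp only at hnorm hd ⊢
  have h2 : ρ.character 1 = (Module.finrank ℂ (Fin n → ℂ) : ℂ) := by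
    rw [Representation.char_one]
  have h3 : (d : ℝ) = (Module.finrank ℂ (Fin n → ℂ) : ℝ) := by
    have : (d : ℂ) = (Module.finrank ℂ (Fin n → ℂ) : ℂ) := by rw [← hd, h2]
    exact_mod_cast this
  have hker : ⁅R, H⁆ ≤ ρ.ker := by
    rw [commutator_le]
    intro r hr x hx
    rw [MonoidHom.mem_ker]
    by_cases hne : centralizer ({x} : Set G) = ⊤
    · have hr' : r ∈ centralizer ({x} : Set G) := by rw [hne]; trivial
      have h4 : r * x = x * r := mem_centralizer_singleton_iff.1 hr'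
      rw [commutatorElement_def, h4]
      simp
    · have h1 := hnorm x hx hne
      rw [h3] at h1
      obtain ⟨z, hz⟩ := (Values.norm_character_eq_iff ρ x).1 h1
      have h4 : r * x = ⁅r, x⁆ * (x * r) := by rw [commutatorElement_def]; group
      have h5 : ρ ⁅r, x⁆ * ρ (x * r) = ρ (x * r) := by
        rw [← map_mul, ← h4, map_mul, map_mul, hz]
        ext v
        simp only [_root_.Algebra.mul_smul_comm, _root_.LinearMap.coe_comp, _root_.LinearMap.coe_smul, _root_.LinearMap.coe_single, _root_.Function.comp_apply, _root_.Pi.smul_apply, _root_.Module.End.mul_apply, _root_.LinearMap.id_coe, _root_.id_eq, _root_.smul_eq_mul, _root_.Algebra.smul_mul_assoc]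
      have h6 : ρ (x * r) * ρ (x * r)⁻¹ = 1 := by rw [← map_mul, mul_inv_cancel, map_one]
      calc ρ ⁅r, x⁆ = ρ ⁅r, x⁆ * (ρ (x * r) * ρ (x * r)⁻¹) := by rw [h6, mul_one]
        _ = 1 := by rw [← mul_assoc, h5, h6]
  have h7 : ρ (u : G) = 1 := MonoidHom.mem_ker.1 (hker hu)
  have h8 : ρ (u : G) = ρ 1 := by rw [h7, map_one ρ]
  rw [Representation.character, Representation.character, h8]

theorem ker_aux [Fact p.Prime] (hp : p ≠ 2) : ∀ (n : ℕ) (G : Type u) [Group G] [Finite G] (H R : Subgroup G),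
    EC p H → R.Normal → (Nat.card R).Coprime p → R ⊔ H = ⊤ → Nat.card G ≤ n → ∀ χ : R → ℂ,
    IsIrrCharacter R χ → (∀ h ∈ H, ∀ r r' : R, (r' : G) = h * r * h⁻¹ → χ r' = χ r) →
    ∀ u : R, (u : G) ∈ ⁅R, H⁆ → χ u = χ 1 := by
  intro n
  induction n with
  | zero =>
    intro G _ _ H R _ _ _ _ hn
    have : 0 < Nat.card G := Nat.card_pos
    omega
  | succ n ihn =>
    intro G _ _ H R h hRn hR htop hn χ hχ hinv u hu
    refine h.ker_step hp ?_ hRn hR htop χ hχ hinv u hu
    intro G' _ _ H' R' h' hRn' hR' htop' hlt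
    exact ihn G' H' R' h' hRn' hR' htop' (by omega)

end EC

end Cfsg.Agent.H266
end
end

-- part: H266/Fix2
section
prune_inst 0x10000140140010000018000000001c42a2000102004b00003140010204825c41a0010f61f860181800108a440038804000900000002000000080000001180080000812009048b00021000000100600000000000000000000000080000004100000c010000
set_option linter.all false
open scoped Cfsg.Agent.FastGrp

-- part: H266/Odd
section
/-!
# Extremely closed abelian `p`-subgroups of order at least three (helper266)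

* `EC.fac_big` : `G = N_G(H) O_{p'}(G)` if `H` is an extremely closed abelian `p`-subgroup of order at least three
  (from helper267's Theorem A);
* `EC.fac` : the same for every extremely closed abelian `p`-subgroup.
-/

set_option autoImplicit false
set_option linter.style.haveILetI false

namespace Cfsg.Agent.H266

open Subgroup Cfsg

universe u

namespace EC

variable {G : Type u} [Group G] {p : ℕ} {H : Subgroup G}

theorem normalClosure_eq_top [Finite G] [Fact p.Prime] (h : EC p H) (ih : IH p G)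
    (hc' : pPrimeCore p G = ⊥) (hc : pCore p G = ⊥) (hne : H ≠ ⊥) :
    normalClosure (H : Set G) = ⊤ := by
  by_contra htop
  set N := normalClosure (H : Set G) with hN
  haveI hNn : N.Normal := normalClosure_normal
  have hHN : H ≤ N := le_normalClosure
  have hcore : pPrimeCore p N = ⊥ := by
    have h1 := Lib.Cores.map_subtype_pPrimeCore p hNn
    rw [hc', inf_bot_eq] at h1
    exact (Subgroup.map_eq_bot_iff_of_injective _ N.subtype_injective).1 h1
  have h1 := h.le_normalizer_of_lt ih N hHN htop hcore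
  have h2 : (H.subgroupOf N).Normal := normal_subgroupOf_of_le_normalizer h1
  have h3 : H.subgroupOf N ≤ pCore p N :=
    Lib.Cores.le_pCore h2 (h.pg.of_equiv (subgroupOfEquivOfLe hHN).symm)
  have h4 := Lib.Cores.map_subtype_pCore p hNn
  rw [hc, inf_bot_eq] at h4
  have h5 : pCore p N = ⊥ := (Subgroup.map_eq_bot_iff_of_injective _ N.subtype_injective).1 h4
  rw [h5, le_bot_iff, subgroupOf_eq_bot] at h3
  exact hne (by rw [← inf_eq_left.2 hHN]; exact h3.eq_bot)

theorem false_of_big [Finite G] [Fact p.Prime] (h : EC p H) (ih : IH p G) (hF : ¬ Fac p H)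
    (h3 : 3 ≤ Nat.card H) : False := by
  obtain ⟨hc', hc, -⟩ := h.step ih hF
  have hne : H ≠ ⊥ := by
    rintro rfl
    rw [card_bot] at h3
    omega
  have hcen : ∀ w ∈ H, (∀ g : G, g * w = w * g) → w = 1 := by
    intro w hw hcw
    obtain ⟨k, hk⟩ := h.pg ⟨w, hw⟩
    exact eq_one_of_central hc (k := k) (congrArg Subtype.val hk) hcw
  have hyp : H267.ThmA.Hyp p H := by
    refine ⟨h.ab, h.pg, fun g => ?_⟩
    obtain ⟨Q, hQ, hTQ, hHQ, hQN, k, hk, hkg⟩ := h.exists_core g
    have hHQn : H ≤ normalizer (Q : Set G) := le_sup_left.trans hTQ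
    refine ⟨Q, hQ, fun w hw x hx => mem_pow_conj (hHQn hw) hx, ?_, k⁻¹, inv_mem hk, hkg⟩
    intro w hw hw1 u hu hwu
    have hCne : centralizer ({w} : Set G) ≠ ⊤ := by
      intro htop
      refine hw1 (hcen w hw fun g => ?_)
      have hg : g ∈ centralizer ({w} : Set G) := by rw [htop]; trivial
      exact mem_centralizer_singleton_iff.1 hg
    have hHw : H ≤ centralizer ({w} : Set G) := fun x hx =>
      mem_centralizer_singleton_iff.2 (h.ab x hx w hw)
    refine h.le_th ih hw hCne (R := Q ⊓ centralizer ({w} : Set G)) ?_ inf_le_right ?_ ?_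
      (mem_inf.2 ⟨hu, mem_centralizer_singleton_iff.2 hwu.symm⟩)
    · exact Nat.Coprime.coprime_dvd_left (card_dvd_of_le inf_le_left) hQ
    · exact Lib.MinNormal.le_normalizer_inf hHQn (hHw.trans le_normalizer)
    · have h1 : Q ⊓ centralizer ({w} : Set G) ⊓ centralizer (H : Set G) ≤ Q ⊓ normalizer (H : Set G) :=
        le_inf (inf_le_left.trans inf_le_left) (inf_le_right.trans (centralizer_le_normalizer _))
      rw [hQN, le_bot_iff] at h1
      rw [h1]
      exact bot_le
  have hcl := h.normalClosure_eq_top ih hc' hc hne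
  obtain ⟨w, hw, hw1⟩ := (Subgroup.ne_bot_iff_exists_ne_one.1 hne : ∃ w : H, w ≠ 1) |>.elim
    fun w hw => (⟨w, w.2, fun h => hw (Subtype.ext h)⟩ : ∃ w ∈ H, w ≠ 1)
  refine hw1 (hcen w hw fun g => ?_)
  have h1 := H267.ThmA.thmA hyp hcl h3 hw g
  rw [hc', mem_bot] at h1
  have h2 : w * g * w⁻¹ = g := mul_inv_eq_one.1 h1
  exact (mul_inv_eq_iff_eq_mul.1 h2).symm

theorem fac_aux [Fact p.Prime] (hp : p ≠ 2) : ∀ (n : ℕ) (G : Type u) [Group G] [Finite G] (H : Subgroup G),
    EC p H → Nat.card G ≤ n → Fac p H := by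
  intro n
  induction n with
  | zero =>
    intro G _ _ H _ hn
    have : 0 < Nat.card G := Nat.card_pos
    omega
  | succ n ihn =>
    intro G _ _ H h hn
    by_cases hne : H = ⊥
    · subst hne
      exact fac_of_normal inferInstance
    by_contra hF
    refine h.false_of_big ?_ hF ?_
    · intro G' _ _ H' h' hlt
      exact ihn G' H' h' (by omega)
    · obtain ⟨k, hk⟩ := h.pg.exists_card_eq
      have hp2 : 3 ≤ p := by
        have := (Fact.out : p.Prime).two_le
        omega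
      rcases Nat.eq_zero_or_pos k with h0 | h0
      · exfalso
        rw [h0, pow_zero] at hk
        exact hne (H.eq_bot_of_card_le hk.le)
      · rw [hk]
        exact hp2.trans (Nat.le_self_pow h0.ne' p)

/-- **The factorization `G = N_G(H) O_{p'}(G)`.** -/
theorem fac [Finite G] [Fact p.Prime] (h : EC p H) : Fac p H := by
  by_cases hp : p = 2
  · subst hp
    exact h.fac_two
  · exact fac_aux hp (Nat.card G) G H h le_rfl

end EC

end Cfsg.Agent.H266
end

-- part: H266/Fix2
section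
/-!
# Extremely closed abelian `p`-subgroups, `p` odd: no fixed points in `[R, H]` (helper266)

* `EC.commutator_inf_centralizer` : `[R, H] ⊓ C_G(H) = ⊥` for `R` a normal `p'`-subgroup;
* `EC.normalClosure_le` : `⟨H^G⟩ ≤ [R, H] H`, `R = O_{p'}(G)`;
* `EC.normalClosure_inf` : `⟨H^G⟩ ⊓ N_G(H) = H`.
-/

set_option autoImplicit false
set_option linter.style.haveILetI false

namespace Cfsg.Agent.H266

open Subgroup Cfsg Cfsg.Agent.Characters Cfsg.Agent.Characters.Core
open scoped ComplexConjugate commutatorElement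

universe u

theorem dvd_of_isIntegral {n p : ℕ} (hp : p ≠ 0) {a : ℂ} (ha : IsIntegral ℤ a) (h : (n : ℂ) = p * a) :
    p ∣ n := by
  have h1 : a = algebraMap ℚ ℂ ((n : ℚ) / p) := by
    have : (p : ℂ) ≠ 0 := Nat.cast_ne_zero.2 hp
    rw [map_div₀, map_natCast, map_natCast, h]
    field_simp
  rw [h1, isIntegral_algebraMap_iff (algebraMap ℚ ℂ).injective] at ha
  obtain ⟨z, hz⟩ := IsIntegrallyClosed.isIntegral_iff.1 ha
  have h2 : (n : ℚ) = p * z := by
    have : (p : ℚ) ≠ 0 := Nat.cast_ne_zero.2 hp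
    have hz' : (z : ℚ) = (n : ℚ) / p := hz
    rw [hz']
    field_simp
  have h3 : (n : ℤ) = p * z := by exact_mod_cast h2
  exact Int.natCast_dvd_natCast.1 ⟨z, h3⟩

namespace EC

variable {G : Type u} [Group G] {p : ℕ} {H R : Subgroup G}

theorem commutator_inf_centralizer_aux [Finite G] [Fact p.Prime] (hp : p ≠ 2) (h : EC p H) (hRn : R.Normal)
    (hR : (Nat.card R).Coprime p) (htop : R ⊔ H = ⊤) : ⁅R, H⁆ ⊓ centralizer (H : Set G) = ⊥ := by
  classical
  rw [eq_bot_iff]
  rintro c hc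
  obtain ⟨hc1, hc2⟩ := mem_inf.1 hc
  rw [mem_bot]
  by_contra hne
  letI : Fintype R := Fintype.ofFinite R
  haveI : Finite (IrrCharacter R) := finite_irr
  letI : Fintype (IrrCharacter R) := Fintype.ofFinite _
  have hcR : c ∈ R := (commutator_le_left R H) hc1
  set c' : R := ⟨c, hcR⟩ with hc'
  have hc'ne : c' ≠ 1 := fun h1 => hne (congrArg Subtype.val h1)
  have hnorm : ∀ s ∈ H, ∀ g ∈ R, s * g * s⁻¹ ∈ R := fun s _ g hg => hRn.conj_mem g hg s
  letI act : MulAction H (IrrCharacter R) := MulAction.compHom _ ((H594.Glau.autPerm R).comp (H594.Glau.conjAut R H hnorm))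
  have hact : ∀ (s : H) (χ : IrrCharacter R), s • χ = H594.Glau.autPerm R (H594.Glau.conjAut R H hnorm s) χ :=
    fun _ _ => rfl
  have hint : ∀ χ : IrrCharacter R,
      IsIntegral ℤ ((χ : R → ℂ) 1 * ((χ : R → ℂ) 1 - conj ((χ : R → ℂ) c'))) := by
    intro χ
    have h1 : ∀ g, IsIntegral ℤ ((χ : R → ℂ) g) := fun g => Cfsg.Agent.Blocks.Central.isIntegral_irr χ.2 g
    rw [← isCharacter_apply_inv (isIrr_isCharacter χ.2)]
    exact (h1 1).mul ((h1 1).sub (h1 _))
  let f : IrrCharacter R → integralClosure ℤ ℂ := fun χ => ⟨_, hint χ⟩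
  have hfinv : ∀ (s : H) (χ : IrrCharacter R), f (s • χ) = f χ := by
    intro s χ
    apply Subtype.ext
    change ((s • χ : IrrCharacter R) : R → ℂ) 1 *
      (((s • χ : IrrCharacter R) : R → ℂ) 1 - conj (((s • χ : IrrCharacter R) : R → ℂ) c')) =
      (χ : R → ℂ) 1 * ((χ : R → ℂ) 1 - conj ((χ : R → ℂ) c'))
    have e1 := H594.Glau.autPerm_apply_apply (H594.Glau.conjAut R H hnorm s) χ 1
    have e2 := H594.Glau.autPerm_apply_apply (H594.Glau.conjAut R H hnorm s) χ c'
    rw [map_one] at e1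
    have e3 : H594.Glau.conjAut R H hnorm s c' = c' := by
      apply Subtype.ext
      rw [H594.Glau.conjAut_apply]
      have := mem_centralizer_iff.1 hc2 (s : G) s.2
      change (s : G) * c * (s : G)⁻¹ = c
      rw [this, mul_inv_cancel_right]
    rw [e3] at e2
    rw [hact, e1, e2]
  obtain ⟨a, ha⟩ := Cfsg.Agent.Blocks.OrbitSum.sum_eq_sum_fixed_add_smul (p := p) h.pg f hfinv
  have hzero : ∑ ω ∈ Finset.univ.filter (· ∈ MulAction.fixedPoints H (IrrCharacter R)), f ω = 0 := by
    refine Finset.sum_eq_zero fun χ hχ => ?_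
    have h1 : ∀ s : H, H594.Glau.autPerm R (H594.Glau.conjAut R H hnorm s) χ = χ :=
      fun s => (Finset.mem_filter.1 hχ).2 s
    have h2 := (H594.Glau.invariant_iff R H hnorm χ).2 h1
    have h3 := ker_aux hp (Nat.card G) G H R h hRn hR htop le_rfl χ χ.2 h2 c' hc1
    apply Subtype.ext
    change (χ : R → ℂ) 1 * ((χ : R → ℂ) 1 - conj ((χ : R → ℂ) c')) = 0
    obtain ⟨d, -, hd⟩ := isIrr_apply_one χ.2
    rw [h3, hd]
    simp
  rw [hzero, zero_add] at ha
  have hsum : ((∑ χ : IrrCharacter R, f χ : integralClosure ℤ ℂ) : ℂ) = Nat.card R := by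
    have e1 := H593.GlaubermanP.sum_idem (G := R) 1
    have e2 := H593.GlaubermanP.sum_idem (G := R) c'
    rw [if_pos rfl] at e1
    rw [if_neg hc'ne] at e2
    have hcard : (Nat.card R : ℂ) ≠ 0 := card_ne_zero_complex
    have e3 : ∀ χ : IrrCharacter R, ((f χ : integralClosure ℤ ℂ) : ℂ) =
        (Nat.card R : ℂ) * (H593.GlaubermanP.idem χ 1 - H593.GlaubermanP.idem χ c') := by
      intro χ
      obtain ⟨d, -, hd⟩ := isIrr_apply_one χ.2
      rw [H593.GlaubermanP.idem_apply, H593.GlaubermanP.idem_apply]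
      change (χ : R → ℂ) 1 * ((χ : R → ℂ) 1 - conj ((χ : R → ℂ) c')) = _
      rw [hd]
      have : conj (d : ℂ) = d := by simp
      rw [this]
      field_simp
    rw [AddSubmonoidClass.coe_finsetSum, Finset.sum_congr rfl fun χ _ => e3 χ, ← Finset.mul_sum,
      Finset.sum_sub_distrib, e1, e2, sub_zero, mul_one]
  have h5 : (Nat.card R : ℂ) = p * (a : ℂ) := by
    rw [← hsum, ha, nsmul_eq_mul]
    simp
  have h6 := dvd_of_isIntegral (Fact.out : p.Prime).ne_zero a.2 h5
  exact ((Nat.Prime.coprime_iff_not_dvd (Fact.out : p.Prime)).1 hR.symm) h6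

theorem commutator_inf_centralizer [Finite G] [Fact p.Prime] (hp : p ≠ 2) (h : EC p H) (hRn : R.Normal)
    (hR : (Nat.card R).Coprime p) : ⁅R, H⁆ ⊓ centralizer (H : Set G) = ⊥ := by
  obtain ⟨L, hL⟩ : ∃ L : Subgroup G, R ⊔ H = L := ⟨_, rfl⟩
  have hHL : H ≤ L := hL ▸ le_sup_right
  have hRL : R ≤ L := hL ▸ le_sup_left
  have htop : R.subgroupOf L ⊔ H.subgroupOf L = ⊤ := by rw [← subgroupOf_sup hRL hHL, hL, subgroupOf_self]
  have hcard : (Nat.card (R.subgroupOf L)).Coprime p := by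
    rwa [Nat.card_congr (subgroupOfEquivOfLe hRL).toEquiv]
  have h1 := (h.subgroupOf hHL).commutator_inf_centralizer_aux hp inferInstance hcard htop
  rw [eq_bot_iff]
  rintro c hc
  obtain ⟨hc1, hc2⟩ := mem_inf.1 hc
  have e : ⁅R, H⁆ = (⁅R.subgroupOf L, H.subgroupOf L⁆).map L.subtype := by
    rw [map_commutator, subgroupOf_map_subtype, subgroupOf_map_subtype, inf_eq_left.2 hRL, inf_eq_left.2 hHL]
  rw [e] at hc1
  obtain ⟨c', hc', rfl⟩ := hc1
  have h2 : c' ∈ ⁅R.subgroupOf L, H.subgroupOf L⁆ ⊓ centralizer ((H.subgroupOf L : Subgroup L) : Set L) := by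
    refine mem_inf.2 ⟨hc', mem_centralizer_iff.2 fun x hx => Subtype.ext ?_⟩
    exact mem_centralizer_iff.1 hc2 x (mem_subgroupOf.1 hx)
  rw [h1, mem_bot] at h2
  rw [h2]
  exact one_mem _

theorem le_norm_sup {N A B : Subgroup G} (hA : N ≤ normalizer (A : Set G))
    (hB : N ≤ normalizer (B : Set G)) : N ≤ normalizer ((A ⊔ B : Subgroup G) : Set G) := by
  rw [sup_eq_iSup]
  refine Lib.MinNormal.le_normalizer_iSup fun b => ?_
  cases b
  · exact hB
  · exact hA

theorem le_norm_comm {N A B : Subgroup G} (hA : N ≤ normalizer (A : Set G))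
    (hB : N ≤ normalizer (B : Set G)) : N ≤ normalizer ((⁅A, B⁆ : Subgroup G) : Set G) := by
  have key : ∀ n ∈ N, ∀ x ∈ ⁅A, B⁆, n * x * n⁻¹ ∈ ⁅A, B⁆ := by
    intro n hn
    have h3 : ⁅A, B⁆ ≤ (⁅A, B⁆ : Subgroup G).comap (MulAut.conj n).toMonoidHom := by
      rw [commutator_le]
      intro a ha b hb
      rw [mem_comap]
      have e : (MulAut.conj n).toMonoidHom ⁅a, b⁆ = ⁅n * a * n⁻¹, n * b * n⁻¹⁆ := by
        change n * ⁅a, b⁆ * n⁻¹ = _
        rw [commutatorElement_def, commutatorElement_def]; group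
      rw [e]
      exact commutator_mem_commutator (mem_pow_conj (hA hn) ha) (mem_pow_conj (hB hn) hb)
    exact fun x hx => h3 hx
  intro n hn
  rw [mem_normalizer_iff]
  refine fun x => ⟨key n hn x, fun hx => ?_⟩
  have := key n⁻¹ (inv_mem hn) _ hx
  simpa [mul_assoc] using this

theorem normal_sup (hRn : R.Normal) (hfac : normalizer (H : Set G) ⊔ R = ⊤) : (H ⊔ ⁅R, H⁆).Normal := by
  rw [← normalizer_eq_top_iff, eq_top_iff, ← hfac]
  refine sup_le (le_norm_sup le_rfl (le_norm_comm ?_ le_rfl)) ?_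
  · rw [normalizer_eq_top_iff.2 hRn]
    exact le_top
  · have key : ∀ r ∈ R, ∀ x ∈ H ⊔ ⁅R, H⁆, r * x * r⁻¹ ∈ H ⊔ ⁅R, H⁆ := by
      intro r hr x hx
      obtain ⟨a, ha, b, hb, rfl⟩ := mem_sup_norm (Lib.CoprimeCommutator.right_le_normalizer_commutator R H) hx
      have e : r * (a * b) * r⁻¹ = ⁅r, a⁆ * a * (r * b * r⁻¹) := by rw [commutatorElement_def]; group
      rw [e]
      exact mul_mem (mul_mem (mem_sup_right (commutator_mem_commutator hr ha)) (mem_sup_left ha))
        (mem_sup_right (mem_pow_conj (Lib.CoprimeCommutator.left_le_normalizer_commutator R H hr) hb))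
    intro r hr
    rw [mem_normalizer_iff]
    refine fun x => ⟨key r hr x, fun hx => ?_⟩
    have := key r⁻¹ (inv_mem hr) _ hx
    simpa [mul_assoc] using this

theorem normalClosure_le (hRn : R.Normal) (hfac : normalizer (H : Set G) ⊔ R = ⊤) :
    normalClosure (H : Set G) ≤ H ⊔ ⁅R, H⁆ := by
  haveI := normal_sup hRn hfac
  exact normalClosure_le_normal (SetLike.coe_subset_coe.2 le_sup_left)

theorem normalClosure_inf [Finite G] [Fact p.Prime] (hp : p ≠ 2) (h : EC p H) :
    normalClosure (H : Set G) ⊓ normalizer (H : Set G) = H := by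
  have hRn : (pPrimeCore p G).Normal := inferInstance
  have hR : (Nat.card (pPrimeCore p G)).Coprime p := Lib.Cores.pPrimeCore_coprime p
  refine le_antisymm ?_ (le_inf le_normalClosure le_normalizer)
  intro x hx
  obtain ⟨hx1, hx2⟩ := mem_inf.1 hx
  have h1 := normalClosure_le hRn h.fac hx1
  obtain ⟨a, ha, b, hb, rfl⟩ := mem_sup_norm (Lib.CoprimeCommutator.right_le_normalizer_commutator _ _) h1
  have hbn : b ∈ normalizer (H : Set G) := by
    have := mul_mem (inv_mem (le_normalizer ha)) hx2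
    rwa [inv_mul_cancel_left] at this
  have hbR : b ∈ pPrimeCore p G := commutator_le_left _ _ hb
  have hb1 : b ∈ ⁅pPrimeCore p G, H⁆ ⊓ centralizer (H : Set G) := by
    refine mem_inf.2 ⟨hb, mem_centralizer_iff.2 fun y hy => ?_⟩
    have h2 : b * y * b⁻¹ * y⁻¹ ∈ H := mul_mem (mem_pow_conj hbn hy) (inv_mem hy)
    have h3 : b * y * b⁻¹ * y⁻¹ ∈ pPrimeCore p G := by
      have e : b * y * b⁻¹ * y⁻¹ = b * (y * b⁻¹ * y⁻¹) := by group
      rw [e]
      exact mul_mem hbR (hRn.conj_mem _ (inv_mem hbR) y)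
    have h4 : b * y * b⁻¹ * y⁻¹ ∈ H ⊓ pPrimeCore p G := mem_inf.2 ⟨h2, h3⟩
    rw [inf_eq_bot h.pg hR, mem_bot] at h4
    have h5 : b * y * b⁻¹ = y := mul_inv_eq_one.1 h4
    exact (mul_inv_eq_iff_eq_mul.1 h5).symm
  rw [h.commutator_inf_centralizer hp hRn hR, mem_bot] at hb1
  rw [hb1, mul_one]
  exact ha

end EC

end Cfsg.Agent.H266
end
end
end
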